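import Cfsg.Agent.Lib.Chev.Invol.Sound
import Cfsg.Agent.Lib.Chev.CheckE7

/-!
Generated certificates for the classes of involutions of the Chevalley group of type E7 in characteristic two.
-/
set_option autoImplicit false
set_option maxRecDepth 100000

namespace Cfsg.Agent.Chev.Invol.E7

open Cfsg.Lie

/-- Functionals giving multiples of the coefficients of a root. -/
def lam : List (List ℤ) := [[4, 4, 6, 8, 6, 4, 2], [4, 7, 8, 12, 9, 6, 3], [6, 8, 12, 16, 12, 8, 4], [8, 12, 16, 24, 18, 12, 6], [6, 9, 12, 18, 15, 10, 5], [4, 6, 8, 12, 10, 8, 4], [2, 3, 4, 6, 5, 4, 3]]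

/-- The roots of node 0. -/
def roots0 : List ℕ := []

/-- The products of node 0. -/
def reps0 : List (List ℕ) := [[]]

/-- Cases of node 0. -/
def cases0_0 : List JCase :=
  [⟨[], [], 0, .none⟩]

/-- Node 0. -/
def node0 : Node :=
  ⟨[], roots0, 0, reps0, [], cases0_0,
    []⟩

/-- The roots of node 1. -/
def roots1 : List ℕ := [62, 63]

/-- The products of node 1. -/
def reps1 : List (List ℕ) := [[], [63]]

/-- Cases of node 1. -/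
def cases1_0 : List JCase :=
  [⟨[], [], 0, .none⟩,
   ⟨[6], [63], 9223372036854775808, .good ⟨[([], 6)], [63], [6], [], 0, [32, 46, 62, 90, 70, 48, 24], [], 0, [([], 1)]⟩⟩]

/-- Node 1. -/
def node1 : Node :=
  ⟨[6], roots1, 13835058055282163712, reps1, [6], cases1_0,
    [(roots0, reps0)]⟩

/-- The roots of node 2. -/
def roots2 : List ℕ := [59, 66]

/-- The products of node 2. -/
def reps2 : List (List ℕ) := [[], [66]]

/-- Cases of node 2. -/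
def cases2_0 : List JCase :=
  [⟨[], [], 0, .none⟩,
   ⟨[4], [66], 73786976294838206464, .good ⟨[([], 4)], [66], [4], [], 0, [28, 40, 54, 78, 60, 42, 22], [], 0, [([], 1)]⟩⟩]

/-- Node 2. -/
def node2 : Node :=
  ⟨[4], roots2, 74363437047141629952, reps2, [4], cases2_0,
    [(roots0, reps0)]⟩

/-- The roots of node 3. -/
def roots3 : List ℕ := [59, 62, 63, 66]

/-- The products of node 3. -/
def reps3 : List (List ℕ) := [[], [66], [63, 66], [63]]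

/-- Cases of node 3. -/
def cases3_0 : List JCase :=
  [⟨[], [], 0, .none⟩,
   ⟨[4], [66], 73786976294838206464, .good ⟨[([], 4)], [66], [4], [(63, 63)], 9223372036854775808, [28, 40, 54, 78, 60, 42, 22], [], 0, [([], 1), ([], 2)]⟩⟩,
   ⟨[6], [63], 9223372036854775808, .good ⟨[([], 6)], [63], [6], [(66, 66)], 73786976294838206464, [32, 46, 62, 90, 70, 48, 24], [], 1, [([], 3), ([], 2)]⟩⟩,
   ⟨[4, 6], [63, 66], 83010348331692982272, .good ⟨[([], 4), ([], 6)], [66, 63], [4, 6], [], 0, [26, 37, 50, 72, 55, 38, 19], [], 2, [([], 2)]⟩⟩]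

/-- Node 3. -/
def node3 : Node :=
  ⟨[4, 6], roots3, 88198495102423793664, reps3, [4, 6], cases3_0,
    [(roots1, reps1), (roots2, reps2), (roots0, reps0)]⟩

/-- The roots of node 4. -/
def roots4 : List ℕ := [52, 73]

/-- The products of node 4. -/
def reps4 : List (List ℕ) := [[], [73]]

/-- Cases of node 4. -/
def cases4_0 : List JCase :=
  [⟨[], [], 0, .none⟩,
   ⟨[2], [73], 9444732965739290427392, .good ⟨[([], 2)], [73], [2], [], 0, [28, 41, 54, 80, 63, 44, 23], [], 0, [([], 1)]⟩⟩]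

/-- Node 4. -/
def node4 : Node :=
  ⟨[2], roots4, 9444737469338917797888, reps4, [2], cases4_0,
    [(roots0, reps0)]⟩

/-- The roots of node 5. -/
def roots5 : List ℕ := [52, 62, 63, 73]

/-- The products of node 5. -/
def reps5 : List (List ℕ) := [[], [73], [63, 73], [63]]

/-- Cases of node 5. -/
def cases5_0 : List JCase :=
  [⟨[], [], 0, .none⟩,
   ⟨[2], [73], 9444732965739290427392, .good ⟨[([], 2)], [73], [2], [(63, 63)], 9223372036854775808, [28, 41, 54, 80, 63, 44, 23], [], 0, [([], 1), ([], 2)]⟩⟩,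
   ⟨[6], [63], 9223372036854775808, .good ⟨[([], 6)], [63], [6], [(73, 73)], 9444732965739290427392, [32, 46, 62, 90, 70, 48, 24], [], 1, [([], 3), ([], 2)]⟩⟩,
   ⟨[2, 6], [63, 73], 9453956337776145203200, .good ⟨[([], 2), ([], 6)], [73, 63], [2, 6], [], 0, [26, 38, 50, 74, 58, 40, 20], [], 2, [([], 2)]⟩⟩]

/-- Node 5. -/
def node5 : Node :=
  ⟨[2, 6], roots5, 9458572527394199961600, reps5, [2, 6], cases5_0,
    [(roots1, reps1), (roots4, reps4), (roots0, reps0)]⟩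

/-- The roots of node 6. -/
def roots6 : List ℕ := [52, 59, 66, 73]

/-- The products of node 6. -/
def reps6 : List (List ℕ) := [[], [73], [66, 73], [66]]

/-- Cases of node 6. -/
def cases6_0 : List JCase :=
  [⟨[], [], 0, .none⟩,
   ⟨[2], [73], 9444732965739290427392, .good ⟨[([], 2)], [73], [2], [(66, 66)], 73786976294838206464, [28, 41, 54, 80, 63, 44, 23], [], 0, [([], 1), ([], 2)]⟩⟩,
   ⟨[4], [66], 73786976294838206464, .good ⟨[([], 4)], [66], [4], [(73, 73)], 9444732965739290427392, [28, 40, 54, 78, 60, 42, 22], [], 1, [([], 3), ([], 2)]⟩⟩,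
   ⟨[2, 4], [66, 73], 9518519942034128633856, .good ⟨[([], 2), ([], 4)], [73, 66], [2, 4], [], 0, [22, 32, 42, 62, 48, 34, 18], [], 2, [([], 2)]⟩⟩]

/-- Node 6. -/
def node6 : Node :=
  ⟨[2, 4], roots6, 9519100906386059427840, reps6, [2, 4], cases6_0,
    [(roots2, reps2), (roots4, reps4), (roots0, reps0)]⟩

/-- The roots of node 7. -/
def roots7 : List ℕ := [52, 59, 62, 63, 66, 73]

/-- The products of node 7. -/
def reps7 : List (List ℕ) := [[], [73], [66, 73], [63, 66, 73], [63, 73], [66], [63, 66], [63]]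

/-- Cases of node 7. -/
def cases7_0 : List JCase :=
  [⟨[], [], 0, .none⟩,
   ⟨[2], [73], 9444732965739290427392, .good ⟨[([], 2)], [73], [2], [(63, 63), (66, 66)], 83010348331692982272, [28, 41, 54, 80, 63, 44, 23], [], 0, [([], 1), ([], 2), ([], 3), ([], 4)]⟩⟩,
   ⟨[4], [66], 73786976294838206464, .good ⟨[([], 4)], [66], [4], [(63, 63), (73, 73)], 9453956337776145203200, [28, 40, 54, 78, 60, 42, 22], [], 1, [([], 5), ([], 2), ([], 3), ([], 6)]⟩⟩,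
   ⟨[2, 4], [66, 73], 9518519942034128633856, .good ⟨[([], 2), ([], 4)], [73, 66], [2, 4], [(63, 63)], 9223372036854775808, [22, 32, 42, 62, 48, 34, 18], [], 2, [([], 2), ([], 3)]⟩⟩,
   ⟨[6], [63], 9223372036854775808, .good ⟨[([], 6)], [63], [6], [(66, 66), (73, 73)], 9518519942034128633856, [32, 46, 62, 90, 70, 48, 24], [], 3, [([], 7), ([], 4), ([], 3), ([], 6)]⟩⟩,
   ⟨[2, 6], [63, 73], 9453956337776145203200, .good ⟨[([], 2), ([], 6)], [73, 63], [2, 6], [(66, 66)], 73786976294838206464, [26, 38, 50, 74, 58, 40, 20], [], 4, [([], 4), ([], 3)]⟩⟩,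
   ⟨[4, 6], [63, 66], 83010348331692982272, .good ⟨[([], 4), ([], 6)], [66, 63], [4, 6], [(73, 73)], 9444732965739290427392, [26, 37, 50, 72, 55, 38, 19], [], 5, [([], 6), ([], 3)]⟩⟩,
   ⟨[2, 4, 6], [63, 66, 73], 9527743314070983409664, .good ⟨[([], 2), ([], 4), ([], 6)], [73, 66, 63], [2, 4, 6], [], 0, [20, 29, 38, 56, 43, 30, 15], [], 6, [([], 3)]⟩⟩]

/-- Node 7. -/
def node7 : Node :=
  ⟨[2, 4, 6], roots7, 9532935964441341591552, reps7, [2, 4, 6], cases7_0,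
    [(roots3, reps3), (roots5, reps5), (roots1, reps1), (roots6, reps6), (roots2, reps2), (roots4, reps4), (roots0, reps0)]⟩

/-- The roots of node 8. -/
def roots8 : List ℕ := [47, 78]

/-- The products of node 8. -/
def reps8 : List (List ℕ) := [[], [78]]

/-- Cases of node 8. -/
def cases8_0 : List JCase :=
  [⟨[], [], 0, .none⟩,
   ⟨[1], [78], 302231454903657293676544, .good ⟨[([], 1)], [78], [1], [], 0, [30, 42, 58, 84, 66, 46, 24], [], 0, [([], 1)]⟩⟩]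

/-- Node 8. -/
def node8 : Node :=
  ⟨[1], roots8, 302231455044394782031872, reps8, [1], cases8_0,
    [(roots0, reps0)]⟩

/-- The roots of node 9. -/
def roots9 : List ℕ := [47, 62, 63, 78]

/-- The products of node 9. -/
def reps9 : List (List ℕ) := [[], [78], [63, 78], [63]]

/-- Cases of node 9. -/
def cases9_0 : List JCase :=
  [⟨[], [], 0, .none⟩,
   ⟨[1], [78], 302231454903657293676544, .good ⟨[([], 1)], [78], [1], [(63, 63)], 9223372036854775808, [30, 42, 58, 84, 66, 46, 24], [], 0, [([], 1), ([], 2)]⟩⟩,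
   ⟨[6], [63], 9223372036854775808, .good ⟨[([], 6)], [63], [6], [(78, 78)], 302231454903657293676544, [32, 46, 62, 90, 70, 48, 24], [], 1, [([], 3), ([], 2)]⟩⟩,
   ⟨[1, 6], [63, 78], 302240678275694148452352, .good ⟨[([], 1), ([], 6)], [78, 63], [1, 6], [], 0, [28, 39, 54, 78, 61, 42, 21], [], 2, [([], 2)]⟩⟩]

/-- Node 9. -/
def node9 : Node :=
  ⟨[1, 6], roots9, 302245290102450064195584, reps9, [1, 6], cases9_0,
    [(roots1, reps1), (roots8, reps8), (roots0, reps0)]⟩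

/-- The roots of node 10. -/
def roots10 : List ℕ := [47, 59, 66, 78]

/-- The products of node 10. -/
def reps10 : List (List ℕ) := [[], [78], [66, 78], [66]]

/-- Cases of node 10. -/
def cases10_0 : List JCase :=
  [⟨[], [], 0, .none⟩,
   ⟨[1], [78], 302231454903657293676544, .good ⟨[([], 1)], [78], [1], [(66, 66)], 73786976294838206464, [30, 42, 58, 84, 66, 46, 24], [], 0, [([], 1), ([], 2)]⟩⟩,
   ⟨[4], [66], 73786976294838206464, .good ⟨[([], 4)], [66], [4], [(78, 78)], 302231454903657293676544, [28, 40, 54, 78, 60, 42, 22], [], 1, [([], 3), ([], 2)]⟩⟩,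
   ⟨[1, 4], [66, 78], 302305241879952131883008, .good ⟨[([], 1), ([], 4)], [78, 66], [1, 4], [], 0, [24, 33, 46, 66, 51, 36, 19], [], 2, [([], 2)]⟩⟩]

/-- Node 10. -/
def node10 : Node :=
  ⟨[1, 4], roots10, 302305818481441923661824, reps10, [1, 4], cases10_0,
    [(roots2, reps2), (roots8, reps8), (roots0, reps0)]⟩

/-- The roots of node 11. -/
def roots11 : List ℕ := [47, 59, 62, 63, 66, 78]

/-- The products of node 11. -/
def reps11 : List (List ℕ) := [[], [78], [66, 78], [63, 66, 78], [63, 78], [66], [63, 66], [63]]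

/-- Cases of node 11. -/
def cases11_0 : List JCase :=
  [⟨[], [], 0, .none⟩,
   ⟨[1], [78], 302231454903657293676544, .good ⟨[([], 1)], [78], [1], [(63, 63), (66, 66)], 83010348331692982272, [30, 42, 58, 84, 66, 46, 24], [], 0, [([], 1), ([], 2), ([], 3), ([], 4)]⟩⟩,
   ⟨[4], [66], 73786976294838206464, .good ⟨[([], 4)], [66], [4], [(63, 63), (78, 78)], 302240678275694148452352, [28, 40, 54, 78, 60, 42, 22], [], 1, [([], 5), ([], 2), ([], 3), ([], 6)]⟩⟩,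
   ⟨[1, 4], [66, 78], 302305241879952131883008, .good ⟨[([], 1), ([], 4)], [78, 66], [1, 4], [(63, 63)], 9223372036854775808, [24, 33, 46, 66, 51, 36, 19], [], 2, [([], 2), ([], 3)]⟩⟩,
   ⟨[6], [63], 9223372036854775808, .good ⟨[([], 6)], [63], [6], [(66, 66), (78, 78)], 302305241879952131883008, [32, 46, 62, 90, 70, 48, 24], [], 3, [([], 7), ([], 4), ([], 3), ([], 6)]⟩⟩,
   ⟨[1, 6], [63, 78], 302240678275694148452352, .good ⟨[([], 1), ([], 6)], [78, 63], [1, 6], [(66, 66)], 73786976294838206464, [28, 39, 54, 78, 61, 42, 21], [], 4, [([], 4), ([], 3)]⟩⟩,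
   ⟨[4, 6], [63, 66], 83010348331692982272, .good ⟨[([], 4), ([], 6)], [66, 63], [4, 6], [(78, 78)], 302231454903657293676544, [26, 37, 50, 72, 55, 38, 19], [], 5, [([], 6), ([], 3)]⟩⟩,
   ⟨[1, 4, 6], [63, 66, 78], 302314465251988986658816, .good ⟨[([], 1), ([], 4), ([], 6)], [78, 66, 63], [1, 4, 6], [], 0, [22, 30, 42, 60, 46, 32, 16], [], 6, [([], 3)]⟩⟩]

/-- Node 11. -/
def node11 : Node :=
  ⟨[1, 4, 6], roots11, 302319653539497205825536, reps11, [1, 4, 6], cases11_0,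
    [(roots3, reps3), (roots9, reps9), (roots1, reps1), (roots10, reps10), (roots2, reps2), (roots8, reps8), (roots0, reps0)]⟩

/-- The roots of node 12. -/
def roots12 : List ℕ := [47, 52, 73, 78]

/-- The products of node 12. -/
def reps12 : List (List ℕ) := [[], [78], [73, 78], [73]]

/-- Cases of node 12. -/
def cases12_0 : List JCase :=
  [⟨[], [], 0, .none⟩,
   ⟨[1], [78], 302231454903657293676544, .good ⟨[([], 1)], [78], [1], [(73, 73)], 9444732965739290427392, [30, 42, 58, 84, 66, 46, 24], [], 0, [([], 1), ([], 2)]⟩⟩,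
   ⟨[2], [73], 9444732965739290427392, .good ⟨[([], 2)], [73], [2], [(78, 78)], 302231454903657293676544, [28, 41, 54, 80, 63, 44, 23], [], 1, [([], 3), ([], 2)]⟩⟩,
   ⟨[1, 2], [73, 78], 311676187869396584103936, .good ⟨[([], 1), ([], 2)], [78, 73], [1, 2], [], 0, [24, 34, 46, 68, 54, 38, 20], [], 2, [([], 2)]⟩⟩]

/-- Node 12. -/
def node12 : Node :=
  ⟨[1, 2], roots12, 311676192513733699829760, reps12, [1, 2], cases12_0,
    [(roots4, reps4), (roots8, reps8), (roots0, reps0)]⟩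

/-- The roots of node 13. -/
def roots13 : List ℕ := [47, 52, 62, 63, 73, 78]

/-- The products of node 13. -/
def reps13 : List (List ℕ) := [[], [78], [73, 78], [63, 73, 78], [63, 78], [73], [63, 73], [63]]

/-- Cases of node 13. -/
def cases13_0 : List JCase :=
  [⟨[], [], 0, .none⟩,
   ⟨[1], [78], 302231454903657293676544, .good ⟨[([], 1)], [78], [1], [(63, 63), (73, 73)], 9453956337776145203200, [30, 42, 58, 84, 66, 46, 24], [], 0, [([], 1), ([], 2), ([], 3), ([], 4)]⟩⟩,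
   ⟨[2], [73], 9444732965739290427392, .good ⟨[([], 2)], [73], [2], [(63, 63), (78, 78)], 302240678275694148452352, [28, 41, 54, 80, 63, 44, 23], [], 1, [([], 5), ([], 2), ([], 3), ([], 6)]⟩⟩,
   ⟨[1, 2], [73, 78], 311676187869396584103936, .good ⟨[([], 1), ([], 2)], [78, 73], [1, 2], [(63, 63)], 9223372036854775808, [24, 34, 46, 68, 54, 38, 20], [], 2, [([], 2), ([], 3)]⟩⟩,
   ⟨[6], [63], 9223372036854775808, .good ⟨[([], 6)], [63], [6], [(73, 73), (78, 78)], 311676187869396584103936, [32, 46, 62, 90, 70, 48, 24], [], 3, [([], 7), ([], 4), ([], 3), ([], 6)]⟩⟩,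
   ⟨[1, 6], [63, 78], 302240678275694148452352, .good ⟨[([], 1), ([], 6)], [78, 63], [1, 6], [(73, 73)], 9444732965739290427392, [28, 39, 54, 78, 61, 42, 21], [], 4, [([], 4), ([], 3)]⟩⟩,
   ⟨[2, 6], [63, 73], 9453956337776145203200, .good ⟨[([], 2), ([], 6)], [73, 63], [2, 6], [(78, 78)], 302231454903657293676544, [26, 38, 50, 74, 58, 40, 20], [], 5, [([], 6), ([], 3)]⟩⟩,
   ⟨[1, 2, 6], [63, 73, 78], 311685411241433438879744, .good ⟨[([], 1), ([], 2), ([], 6)], [78, 73, 63], [1, 2, 6], [], 0, [22, 31, 42, 62, 49, 34, 17], [], 6, [([], 3)]⟩⟩]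

/-- Node 13. -/
def node13 : Node :=
  ⟨[1, 2, 6], roots13, 311690027571788981993472, reps13, [1, 2, 6], cases13_0,
    [(roots5, reps5), (roots9, reps9), (roots1, reps1), (roots12, reps12), (roots4, reps4), (roots8, reps8), (roots0, reps0)]⟩

/-- The roots of node 14. -/
def roots14 : List ℕ := [47, 52, 59, 66, 73, 78]

/-- The products of node 14. -/
def reps14 : List (List ℕ) := [[], [78], [73, 78], [66, 73, 78], [66, 78], [73], [66, 73], [66]]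

/-- Cases of node 14. -/
def cases14_0 : List JCase :=
  [⟨[], [], 0, .none⟩,
   ⟨[1], [78], 302231454903657293676544, .good ⟨[([], 1)], [78], [1], [(66, 66), (73, 73)], 9518519942034128633856, [30, 42, 58, 84, 66, 46, 24], [], 0, [([], 1), ([], 2), ([], 3), ([], 4)]⟩⟩,
   ⟨[2], [73], 9444732965739290427392, .good ⟨[([], 2)], [73], [2], [(66, 66), (78, 78)], 302305241879952131883008, [28, 41, 54, 80, 63, 44, 23], [], 1, [([], 5), ([], 2), ([], 3), ([], 6)]⟩⟩,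
   ⟨[1, 2], [73, 78], 311676187869396584103936, .good ⟨[([], 1), ([], 2)], [78, 73], [1, 2], [(66, 66)], 73786976294838206464, [24, 34, 46, 68, 54, 38, 20], [], 2, [([], 2), ([], 3)]⟩⟩,
   ⟨[4], [66], 73786976294838206464, .good ⟨[([], 4)], [66], [4], [(73, 73), (78, 78)], 311676187869396584103936, [28, 40, 54, 78, 60, 42, 22], [], 3, [([], 7), ([], 4), ([], 3), ([], 6)]⟩⟩,
   ⟨[1, 4], [66, 78], 302305241879952131883008, .good ⟨[([], 1), ([], 4)], [78, 66], [1, 4], [(73, 73)], 9444732965739290427392, [24, 33, 46, 66, 51, 36, 19], [], 4, [([], 4), ([], 3)]⟩⟩,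
   ⟨[2, 4], [66, 73], 9518519942034128633856, .good ⟨[([], 2), ([], 4)], [73, 66], [2, 4], [(78, 78)], 302231454903657293676544, [22, 32, 42, 62, 48, 34, 18], [], 5, [([], 6), ([], 3)]⟩⟩,
   ⟨[1, 2, 4], [66, 73, 78], 311749974845691422310400, .good ⟨[([], 1), ([], 2), ([], 4)], [78, 73, 66], [1, 2, 4], [], 0, [18, 25, 34, 50, 39, 28, 15], [], 6, [([], 3)]⟩⟩]

/-- Node 14. -/
def node14 : Node :=
  ⟨[1, 2, 4], roots14, 311750555950780841459712, reps14, [1, 2, 4], cases14_0,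
    [(roots6, reps6), (roots10, reps10), (roots2, reps2), (roots12, reps12), (roots4, reps4), (roots8, reps8), (roots0, reps0)]⟩

/-- The roots of node 15. -/
def roots15 : List ℕ := [47, 52, 59, 62, 63, 66, 73, 78]

/-- The products of node 15. -/
def reps15 : List (List ℕ) := [[], [78], [73, 78], [66, 73, 78], [63, 66, 73, 78], [63, 73, 78], [66, 78], [63, 66, 78], [63, 78], [73], [66, 73], [63, 66, 73], [63, 73], [66], [63, 66], [63]]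

/-- Cases of node 15. -/
def cases15_0 : List JCase :=
  [⟨[], [], 0, .none⟩,
   ⟨[1], [78], 302231454903657293676544, .good ⟨[([], 1)], [78], [1], [(63, 63), (66, 66), (73, 73)], 9527743314070983409664, [30, 42, 58, 84, 66, 46, 24], [], 0, [([], 1), ([], 2), ([], 3), ([], 4), ([], 5), ([], 6), ([], 7), ([], 8)]⟩⟩,
   ⟨[2], [73], 9444732965739290427392, .good ⟨[([], 2)], [73], [2], [(63, 63), (66, 66), (78, 78)], 302314465251988986658816, [28, 41, 54, 80, 63, 44, 23], [], 1, [([], 9), ([], 2), ([], 3), ([], 4), ([], 5), ([], 10), ([], 11), ([], 12)]⟩⟩,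
   ⟨[1, 2], [73, 78], 311676187869396584103936, .good ⟨[([], 1), ([], 2)], [78, 73], [1, 2], [(63, 63), (66, 66)], 83010348331692982272, [24, 34, 46, 68, 54, 38, 20], [], 2, [([], 2), ([], 3), ([], 4), ([], 5)]⟩⟩,
   ⟨[4], [66], 73786976294838206464, .good ⟨[([], 4)], [66], [4], [(63, 63), (73, 73), (78, 78)], 311685411241433438879744, [28, 40, 54, 78, 60, 42, 22], [], 3, [([], 13), ([], 6), ([], 3), ([], 4), ([], 7), ([], 10), ([], 11), ([], 14)]⟩⟩,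
   ⟨[1, 4], [66, 78], 302305241879952131883008, .good ⟨[([], 1), ([], 4)], [78, 66], [1, 4], [(63, 63), (73, 73)], 9453956337776145203200, [24, 33, 46, 66, 51, 36, 19], [], 4, [([], 6), ([], 3), ([], 4), ([], 7)]⟩⟩,
   ⟨[2, 4], [66, 73], 9518519942034128633856, .good ⟨[([], 2), ([], 4)], [73, 66], [2, 4], [(63, 63), (78, 78)], 302240678275694148452352, [22, 32, 42, 62, 48, 34, 18], [], 5, [([], 10), ([], 3), ([], 4), ([], 11)]⟩⟩,
   ⟨[1, 2, 4], [66, 73, 78], 311749974845691422310400, .good ⟨[([], 1), ([], 2), ([], 4)], [78, 73, 66], [1, 2, 4], [(63, 63)], 9223372036854775808, [18, 25, 34, 50, 39, 28, 15], [], 6, [([], 3), ([], 4)]⟩⟩,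
   ⟨[6], [63], 9223372036854775808, .good ⟨[([], 6)], [63], [6], [(66, 66), (73, 73), (78, 78)], 311749974845691422310400, [32, 46, 62, 90, 70, 48, 24], [], 7, [([], 15), ([], 8), ([], 5), ([], 4), ([], 7), ([], 12), ([], 11), ([], 14)]⟩⟩,
   ⟨[1, 6], [63, 78], 302240678275694148452352, .good ⟨[([], 1), ([], 6)], [78, 63], [1, 6], [(66, 66), (73, 73)], 9518519942034128633856, [28, 39, 54, 78, 61, 42, 21], [], 8, [([], 8), ([], 5), ([], 4), ([], 7)]⟩⟩,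
   ⟨[2, 6], [63, 73], 9453956337776145203200, .good ⟨[([], 2), ([], 6)], [73, 63], [2, 6], [(66, 66), (78, 78)], 302305241879952131883008, [26, 38, 50, 74, 58, 40, 20], [], 9, [([], 12), ([], 5), ([], 4), ([], 11)]⟩⟩,
   ⟨[1, 2, 6], [63, 73, 78], 311685411241433438879744, .good ⟨[([], 1), ([], 2), ([], 6)], [78, 73, 63], [1, 2, 6], [(66, 66)], 73786976294838206464, [22, 31, 42, 62, 49, 34, 17], [], 10, [([], 5), ([], 4)]⟩⟩,
   ⟨[4, 6], [63, 66], 83010348331692982272, .good ⟨[([], 4), ([], 6)], [66, 63], [4, 6], [(73, 73), (78, 78)], 311676187869396584103936, [26, 37, 50, 72, 55, 38, 19], [], 11, [([], 14), ([], 7), ([], 4), ([], 11)]⟩⟩,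
   ⟨[1, 4, 6], [63, 66, 78], 302314465251988986658816, .good ⟨[([], 1), ([], 4), ([], 6)], [78, 66, 63], [1, 4, 6], [(73, 73)], 9444732965739290427392, [22, 30, 42, 60, 46, 32, 16], [], 12, [([], 7), ([], 4)]⟩⟩,
   ⟨[2, 4, 6], [63, 66, 73], 9527743314070983409664, .good ⟨[([], 2), ([], 4), ([], 6)], [73, 66, 63], [2, 4, 6], [(78, 78)], 302231454903657293676544, [20, 29, 38, 56, 43, 30, 15], [], 13, [([], 11), ([], 4)]⟩⟩,
   ⟨[1, 2, 4, 6], [63, 66, 73, 78], 311759198217728277086208, .good ⟨[([], 1), ([], 2), ([], 4), ([], 6)], [78, 73, 66, 63], [1, 2, 4, 6], [], 0, [16, 22, 30, 44, 34, 24, 12], [], 14, [([], 4)]⟩⟩]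

/-- Node 15. -/
def node15 : Node :=
  ⟨[1, 2, 4, 6], roots15, 311764391008836123623424, reps15, [1, 2, 4, 6], cases15_0,
    [(roots7, reps7), (roots11, reps11), (roots3, reps3), (roots13, reps13), (roots5, reps5), (roots9, reps9), (roots1, reps1), (roots14, reps14), (roots6, reps6), (roots10, reps10), (roots2, reps2), (roots12, reps12), (roots4, reps4), (roots8, reps8), (roots0, reps0)]⟩

/-- The roots of node 16. -/
def roots16 : List ℕ := [38, 41, 42, 45, 46, 47, 50, 51, 52, 55, 56, 59, 66, 69, 70, 73, 74, 75, 78, 79, 80, 83, 84, 87]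

/-- The products of node 16. -/
def reps16 : List (List ℕ) := [[], [87], [78, 87], [73, 78, 87], [66, 73, 78, 87], [73, 87], [66, 87]]

/-- Cases of node 16. -/
def cases16_0 : List JCase :=
  [⟨[], [], 0, .none⟩,
   ⟨[1], [78], 302231454903657293676544, .good ⟨[([], 1)], [78], [1], [(66, 66), (69, 79), (73, 73), (70, 80), (74, 83), (75, 84), (87, 87)], 185638071116013124305551360, [30, 42, 58, 84, 66, 46, 24], [3, 4, 2, 3], 0, [([], 1), ([], 2), ([], 3), ([], 4), ([3, 2, 4, 3], 3), ([], 5), ([3, 1, 4, 3], 3), ([], 6)]⟩⟩,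
   ⟨[2], [73], 9444732965739290427392, .good ⟨[([], 2)], [73], [2], [(66, 66), (69, 74), (78, 78), (70, 75), (79, 83), (80, 84), (87, 87)], 185930857837951042308800512, [28, 41, 54, 80, 63, 44, 23], [3, 4, 1, 3], 0, [([], 1), ([], 2), ([], 3), ([], 4), ([3, 2, 4, 3], 3), ([], 5), ([3, 1, 4, 3], 3), ([], 6)]⟩⟩,
   ⟨[1, 2], [73, 78], 311676187869396584103936, .good ⟨[([], 1), ([], 2)], [78, 73], [1, 2], [(66, 66), (69, 83), (74, 79), (70, 84), (75, 80), (87, 87)], 185628626383047385015123968, [24, 34, 46, 68, 54, 38, 20], [3, 4, 1, 3], 1, [([], 6), ([3, 2, 4, 3], 3), ([], 4), ([3, 1, 4, 3], 3)]⟩⟩,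
   ⟨[3], [69], 590295810358705651712, .good ⟨[([], 3)], [69], [3], [(66, 70), (73, 74), (78, 79), (75, 75), (80, 80), (83, 83), (84, 87)], 185939712275106422893576192, [26, 37, 50, 72, 57, 40, 21], [3, 4, 2, 1], 0, [([], 1), ([], 2), ([], 3), ([], 4), ([3, 2, 4, 3], 3), ([], 5), ([3, 1, 4, 3], 3), ([], 6)]⟩⟩,
   ⟨[1, 3], [69, 78, 79], 907284660521330586681344, .bad [1, 3, 1] 1⟩,
   ⟨[2, 3], [69, 73, 74], 28924494707576576933888, .bad [2, 3, 2] 2⟩,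
   ⟨[1, 2, 3], [69, 73, 74, 78, 79, 83], 10607025416335581855612928, .bad [1, 2, 3, 1, 2, 3] 1⟩,
   ⟨[4], [66], 73786976294838206464, .good ⟨[([], 4)], [66], [4], [(69, 70), (73, 73), (78, 78), (74, 75), (79, 80), (83, 84), (87, 87)], 185940228783940486761021440, [28, 40, 54, 78, 60, 42, 22], [3, 2, 1, 3], 0, [([], 1), ([], 2), ([], 3), ([], 4), ([3, 2, 4, 3], 3), ([], 5), ([3, 1, 4, 3], 3), ([], 6)]⟩⟩,
   ⟨[1, 4], [66, 78], 302305241879952131883008, .good ⟨[([], 1), ([], 4)], [78, 66], [1, 4], [(69, 80), (70, 79), (73, 73), (74, 84), (75, 83), (87, 87)], 185637997329036829467344896, [24, 33, 46, 66, 51, 36, 19], [3, 2, 1, 3], 2, [([], 5), ([], 3), ([], 4), ([3, 1, 4, 3], 3)]⟩⟩,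
   ⟨[2, 4], [66, 73], 9518519942034128633856, .good ⟨[([], 2), ([], 4)], [73, 66], [2, 4], [(69, 75), (70, 74), (78, 78), (79, 84), (80, 83), (87, 87)], 185930784050974747470594048, [22, 32, 42, 62, 48, 34, 18], [3, 2, 1, 3], 3, [([], 2), ([], 3), ([], 4), ([3, 2, 4, 3], 3)]⟩⟩,
   ⟨[1, 2, 4], [66, 73, 78], 311749974845691422310400, .good ⟨[([], 1), ([], 2), ([], 4)], [78, 73, 66], [1, 2, 4], [(69, 84), (70, 83), (74, 80), (75, 79), (87, 87)], 185628552596071090176917504, [18, 25, 34, 50, 39, 28, 15], [3, 2, 1, 3], 4, [([], 3), ([], 4)]⟩⟩,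
   ⟨[3, 4], [66, 69, 70], 1844674407370955161600, .bad [3, 4, 3] 3⟩,
   ⟨[1, 3, 4], [66, 69, 70, 78, 79, 80], 2117464858732972010897408, .bad [1, 3, 1, 4, 3, 1] 1⟩,
   ⟨[2, 3, 4], [66, 69, 70, 73, 74, 75], 67957805167545988153344, .bad [2, 3, 2, 4, 3, 2] 2⟩,
   ⟨[1, 2, 3, 4], [66, 69, 70, 73, 74, 75, 78, 79, 80, 83, 84, 87], 185940302570916781599227904, .good ⟨[([3, 1, 2, 3], 4), ([], 1), ([], 2), ([], 4)], [87, 78, 73, 66], [3, 1, 2, 3, 4, 3, 2, 1, 3, 1, 2, 4], [], 0, [10, 13, 18, 26, 21, 16, 9], [3, 2, 1, 3], 5, [([], 4)]⟩⟩]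

/-- Node 16. -/
def node16 : Node :=
  ⟨[1, 2, 3, 4], roots16, 185940303263598386859737088, reps16, [1, 2, 3, 1, 2, 3, 4, 3, 1, 2, 3, 4], cases16_0,
    [(roots14, reps14), (roots12, reps12), (roots10, reps10), (roots6, reps6), (roots2, reps2), (roots0, reps0)]⟩

/-- The roots of node 17. -/
def roots17 : List ℕ := [38, 41, 42, 45, 46, 47, 50, 51, 52, 55, 56, 59, 62, 63, 66, 69, 70, 73, 74, 75, 78, 79, 80, 83, 84, 87]

/-- The products of node 17. -/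
def reps17 : List (List ℕ) := [[], [87], [78, 87], [73, 78, 87], [66, 73, 78, 87], [63, 66, 73, 78, 87], [63, 73, 78, 87], [63, 78, 87], [73, 87], [63, 73, 87], [66, 87], [63, 66, 87], [63, 87], [63]]

/-- Cases of node 17. -/
def cases17_0 : List JCase :=
  [⟨[], [], 0, .none⟩,
   ⟨[1], [78], 302231454903657293676544, .good ⟨[([], 1)], [78], [1], [(63, 63), (66, 66), (69, 79), (73, 73), (70, 80), (74, 83), (75, 84), (87, 87)], 185638080339385161160327168, [30, 42, 58, 84, 66, 46, 24], [3, 4, 2, 3], 0, [([], 1), ([], 2), ([], 3), ([], 4), ([], 5), ([], 6), ([3, 2, 4, 3], 3), ([3, 2, 4, 3], 6), ([], 7), ([], 8), ([3, 1, 4, 3], 3), ([3, 1, 4, 3], 6), ([], 9), ([], 10), ([], 11), ([], 12)]⟩⟩,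
   ⟨[2], [73], 9444732965739290427392, .good ⟨[([], 2)], [73], [2], [(63, 63), (66, 66), (69, 74), (78, 78), (70, 75), (79, 83), (80, 84), (87, 87)], 185930867061323079163576320, [28, 41, 54, 80, 63, 44, 23], [3, 4, 1, 3], 0, [([], 1), ([], 2), ([], 3), ([], 4), ([], 5), ([], 6), ([3, 2, 4, 3], 3), ([3, 2, 4, 3], 6), ([], 7), ([], 8), ([3, 1, 4, 3], 3), ([3, 1, 4, 3], 6), ([], 9), ([], 10), ([], 11), ([], 12)]⟩⟩,
   ⟨[1, 2], [73, 78], 311676187869396584103936, .good ⟨[([], 1), ([], 2)], [78, 73], [1, 2], [(63, 63), (66, 66), (69, 83), (74, 79), (70, 84), (75, 80), (87, 87)], 185628635606419421869899776, [24, 34, 46, 68, 54, 38, 20], [3, 4, 1, 3], 1, [([], 10), ([3, 2, 4, 3], 3), ([], 4), ([], 5), ([3, 2, 4, 3], 6), ([3, 1, 4, 3], 3), ([3, 1, 4, 3], 6), ([], 11)]⟩⟩,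
   ⟨[3], [69], 590295810358705651712, .good ⟨[([], 3)], [69], [3], [(63, 63), (66, 70), (73, 74), (78, 79), (75, 75), (80, 80), (83, 83), (84, 87)], 185939721498478459748352000, [26, 37, 50, 72, 57, 40, 21], [3, 4, 2, 1], 0, [([], 1), ([], 2), ([], 3), ([], 4), ([], 5), ([], 6), ([3, 2, 4, 3], 3), ([3, 2, 4, 3], 6), ([], 7), ([], 8), ([3, 1, 4, 3], 3), ([3, 1, 4, 3], 6), ([], 9), ([], 10), ([], 11), ([], 12)]⟩⟩,
   ⟨[1, 3], [69, 78, 79], 907284660521330586681344, .bad [1, 3, 1] 1⟩,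
   ⟨[2, 3], [69, 73, 74], 28924494707576576933888, .bad [2, 3, 2] 2⟩,
   ⟨[1, 2, 3], [69, 73, 74, 78, 79, 83], 10607025416335581855612928, .bad [1, 2, 3, 1, 2, 3] 1⟩,
   ⟨[4], [66], 73786976294838206464, .good ⟨[([], 4)], [66], [4], [(63, 63), (69, 70), (73, 73), (78, 78), (74, 75), (79, 80), (83, 84), (87, 87)], 185940238007312523615797248, [28, 40, 54, 78, 60, 42, 22], [3, 2, 1, 3], 0, [([], 1), ([], 2), ([], 3), ([], 4), ([], 5), ([], 6), ([3, 2, 4, 3], 3), ([3, 2, 4, 3], 6), ([], 7), ([], 8), ([3, 1, 4, 3], 3), ([3, 1, 4, 3], 6), ([], 9), ([], 10), ([], 11), ([], 12)]⟩⟩,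
   ⟨[1, 4], [66, 78], 302305241879952131883008, .good ⟨[([], 1), ([], 4)], [78, 66], [1, 4], [(63, 63), (69, 80), (70, 79), (73, 73), (74, 84), (75, 83), (87, 87)], 185638006552408866322120704, [24, 33, 46, 66, 51, 36, 19], [3, 2, 1, 3], 2, [([], 8), ([], 3), ([], 4), ([], 5), ([], 6), ([3, 1, 4, 3], 3), ([3, 1, 4, 3], 6), ([], 9)]⟩⟩,
   ⟨[2, 4], [66, 73], 9518519942034128633856, .good ⟨[([], 2), ([], 4)], [73, 66], [2, 4], [(63, 63), (69, 75), (70, 74), (78, 78), (79, 84), (80, 83), (87, 87)], 185930793274346784325369856, [22, 32, 42, 62, 48, 34, 18], [3, 2, 1, 3], 3, [([], 2), ([], 3), ([], 4), ([], 5), ([], 6), ([3, 2, 4, 3], 3), ([3, 2, 4, 3], 6), ([], 7)]⟩⟩,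
   ⟨[1, 2, 4], [66, 73, 78], 311749974845691422310400, .good ⟨[([], 1), ([], 2), ([], 4)], [78, 73, 66], [1, 2, 4], [(63, 63), (69, 84), (70, 83), (74, 80), (75, 79), (87, 87)], 185628561819443127031693312, [18, 25, 34, 50, 39, 28, 15], [3, 2, 1, 3], 4, [([], 3), ([], 4), ([], 5), ([], 6)]⟩⟩,
   ⟨[3, 4], [66, 69, 70], 1844674407370955161600, .bad [3, 4, 3] 3⟩,
   ⟨[1, 3, 4], [66, 69, 70, 78, 79, 80], 2117464858732972010897408, .bad [1, 3, 1, 4, 3, 1] 1⟩,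
   ⟨[2, 3, 4], [66, 69, 70, 73, 74, 75], 67957805167545988153344, .bad [2, 3, 2, 4, 3, 2] 2⟩,
   ⟨[1, 2, 3, 4], [66, 69, 70, 73, 74, 75, 78, 79, 80, 83, 84, 87], 185940302570916781599227904, .good ⟨[([3, 1, 2, 3], 4), ([], 1), ([], 2), ([], 4)], [87, 78, 73, 66], [3, 1, 2, 3, 4, 3, 2, 1, 3, 1, 2, 4], [(63, 63)], 9223372036854775808, [10, 13, 18, 26, 21, 16, 9], [3, 2, 1, 3], 5, [([], 4), ([], 5)]⟩⟩]

/-- Cases of node 17. -/
def cases17_1 : List JCase :=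
  [⟨[6], [63], 9223372036854775808, .good ⟨[([], 6)], [63], [6], [(66, 66), (69, 69), (73, 73), (78, 78), (70, 70), (74, 74), (79, 79), (75, 75), (80, 80), (83, 83), (84, 84), (87, 87)], 185940302570916781599227904, [32, 46, 62, 90, 70, 48, 24], [], 6, [([], 13), ([], 12), ([], 7), ([], 6), ([], 5), ([], 9), ([], 11)]⟩⟩,
   ⟨[1, 6], [63, 78], 302240678275694148452352, .good ⟨[([], 1), ([], 6)], [78, 63], [1, 6], [(66, 66), (69, 79), (73, 73), (70, 80), (74, 83), (75, 84), (87, 87)], 185638071116013124305551360, [28, 39, 54, 78, 61, 42, 21], [3, 4, 2, 3], 7, [([], 12), ([], 7), ([], 6), ([], 5), ([3, 2, 4, 3], 6), ([], 9), ([3, 1, 4, 3], 6), ([], 11)]⟩⟩,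
   ⟨[2, 6], [63, 73], 9453956337776145203200, .good ⟨[([], 2), ([], 6)], [73, 63], [2, 6], [(66, 66), (69, 74), (78, 78), (70, 75), (79, 83), (80, 84), (87, 87)], 185930857837951042308800512, [26, 38, 50, 74, 58, 40, 20], [3, 4, 1, 3], 7, [([], 12), ([], 7), ([], 6), ([], 5), ([3, 2, 4, 3], 6), ([], 9), ([3, 1, 4, 3], 6), ([], 11)]⟩⟩,
   ⟨[1, 2, 6], [63, 73, 78], 311685411241433438879744, .good ⟨[([], 1), ([], 2), ([], 6)], [78, 73, 63], [1, 2, 6], [(66, 66), (69, 83), (74, 79), (70, 84), (75, 80), (87, 87)], 185628626383047385015123968, [22, 31, 42, 62, 49, 34, 17], [3, 4, 1, 3], 8, [([], 11), ([3, 2, 4, 3], 6), ([], 5), ([3, 1, 4, 3], 6)]⟩⟩,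
   ⟨[3, 6], [63, 69], 599519182395560427520, .good ⟨[([], 3), ([], 6)], [69, 63], [3, 6], [(66, 70), (73, 74), (78, 79), (75, 75), (80, 80), (83, 83), (84, 87)], 185939712275106422893576192, [24, 34, 46, 66, 52, 36, 18], [3, 4, 2, 1], 7, [([], 12), ([], 7), ([], 6), ([], 5), ([3, 2, 4, 3], 6), ([], 9), ([3, 1, 4, 3], 6), ([], 11)]⟩⟩,
   ⟨[1, 3, 6], [63, 69, 78, 79], 907293883893367441457152, .bad [1, 3, 1, 6] 1⟩,
   ⟨[2, 3, 6], [63, 69, 73, 74], 28933718079613431709696, .bad [2, 3, 2, 6] 2⟩,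
   ⟨[1, 2, 3, 6], [63, 69, 73, 74, 78, 79, 83], 10607034639707618710388736, .bad [1, 2, 3, 1, 2, 3, 6] 1⟩,
   ⟨[4, 6], [63, 66], 83010348331692982272, .good ⟨[([], 4), ([], 6)], [66, 63], [4, 6], [(69, 70), (73, 73), (78, 78), (74, 75), (79, 80), (83, 84), (87, 87)], 185940228783940486761021440, [26, 37, 50, 72, 55, 38, 19], [3, 2, 1, 3], 7, [([], 12), ([], 7), ([], 6), ([], 5), ([3, 2, 4, 3], 6), ([], 9), ([3, 1, 4, 3], 6), ([], 11)]⟩⟩,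
   ⟨[1, 4, 6], [63, 66, 78], 302314465251988986658816, .good ⟨[([], 1), ([], 4), ([], 6)], [78, 66, 63], [1, 4, 6], [(69, 80), (70, 79), (73, 73), (74, 84), (75, 83), (87, 87)], 185637997329036829467344896, [22, 30, 42, 60, 46, 32, 16], [3, 2, 1, 3], 9, [([], 9), ([], 6), ([], 5), ([3, 1, 4, 3], 6)]⟩⟩,
   ⟨[2, 4, 6], [63, 66, 73], 9527743314070983409664, .good ⟨[([], 2), ([], 4), ([], 6)], [73, 66, 63], [2, 4, 6], [(69, 75), (70, 74), (78, 78), (79, 84), (80, 83), (87, 87)], 185930784050974747470594048, [20, 29, 38, 56, 43, 30, 15], [3, 2, 1, 3], 10, [([], 7), ([], 6), ([], 5), ([3, 2, 4, 3], 6)]⟩⟩,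
   ⟨[1, 2, 4, 6], [63, 66, 73, 78], 311759198217728277086208, .good ⟨[([], 1), ([], 2), ([], 4), ([], 6)], [78, 73, 66, 63], [1, 2, 4, 6], [(69, 84), (70, 83), (74, 80), (75, 79), (87, 87)], 185628552596071090176917504, [16, 22, 30, 44, 34, 24, 12], [3, 2, 1, 3], 11, [([], 6), ([], 5)]⟩⟩,
   ⟨[3, 4, 6], [63, 66, 69, 70], 1853897779407809937408, .bad [3, 4, 3, 6] 3⟩,
   ⟨[1, 3, 4, 6], [63, 66, 69, 70, 78, 79, 80], 2117474082105008865673216, .bad [1, 3, 1, 4, 3, 1, 6] 1⟩,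
   ⟨[2, 3, 4, 6], [63, 66, 69, 70, 73, 74, 75], 67967028539582842929152, .bad [2, 3, 2, 4, 3, 2, 6] 2⟩,
   ⟨[1, 2, 3, 4, 6], [63, 66, 69, 70, 73, 74, 75, 78, 79, 80, 83, 84, 87], 185940311794288818454003712, .good ⟨[([3, 1, 2, 3], 4), ([], 1), ([], 2), ([], 4), ([], 6)], [87, 78, 73, 66, 63], [3, 1, 2, 3, 4, 3, 2, 1, 3, 1, 2, 4, 6], [], 0, [8, 10, 14, 20, 16, 12, 6], [3, 2, 1, 3], 12, [([], 5)]⟩⟩]

/-- Node 17. -/
def node17 : Node :=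
  ⟨[1, 2, 3, 4, 6], roots17, 185940317098656442141900800, reps17, [1, 2, 3, 1, 2, 3, 4, 3, 1, 2, 3, 4, 6], cases17_0 ++ cases17_1,
    [(roots15, reps15), (roots13, reps13), (roots11, reps11), (roots7, reps7), (roots3, reps3), (roots1, reps1), (roots16, reps16), (roots14, reps14), (roots12, reps12), (roots10, reps10), (roots6, reps6), (roots2, reps2), (roots0, reps0)]⟩

/-- The roots of node 18. -/
def roots18 : List ℕ := [33, 34, 35, 36, 37, 38, 39, 40, 41, 42, 43, 44, 45, 46, 47, 48, 49, 50, 51, 52, 53, 54, 55, 56, 57, 58, 59, 60, 61, 62, 63, 64, 65, 66, 67, 68, 69, 70, 71, 72, 73, 74, 75, 76, 77, 78, 79, 80, 81, 82, 83, 84, 85, 86, 87, 88, 89, 90, 91, 92]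

/-- The products of node 18. -/
def reps18 : List (List ℕ) := [[], [92], [87, 92], [78, 87, 92], [73, 78, 87, 92], [66, 73, 78, 87, 92], [63, 66, 73, 78, 87, 92], [73, 87, 92], [66, 87, 92], [63, 66, 87, 92], [63, 92]]

/-- Cases of node 18. -/
def cases18_0 : List JCase :=
  [⟨[], [], 0, .none⟩,
   ⟨[1], [78], 302231454903657293676544, .good ⟨[([], 1)], [78], [1], [(63, 63), (64, 64), (66, 66), (69, 79), (73, 73), (65, 65), (67, 67), (70, 80), (74, 83), (68, 68), (71, 81), (75, 84), (72, 82), (76, 85), (87, 87), (77, 86), (88, 88), (89, 89), (90, 90), (91, 91), (92, 92)], 9903218073604766505044541440, [30, 42, 58, 84, 66, 46, 24], [5, 6, 4, 5, 3, 4, 2, 3], 0, [([], 1), ([], 2), ([], 3), ([], 4), ([], 5), ([], 6), ([5, 4, 6, 5], 5), ([3, 2, 4, 3, 5, 4, 6, 5], 4), ([], 7), ([3, 1, 4, 3, 5, 4, 6, 5], 4), ([], 8), ([], 9), ([5, 4, 6, 5], 8), ([], 10)]⟩⟩,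
   ⟨[2], [73], 9444732965739290427392, .good ⟨[([], 2)], [73], [2], [(63, 63), (64, 64), (66, 66), (69, 74), (78, 78), (65, 65), (67, 67), (70, 75), (79, 83), (68, 68), (71, 76), (80, 84), (72, 77), (81, 85), (87, 87), (82, 86), (88, 88), (89, 89), (90, 90), (91, 91), (92, 92)], 9903510860326704423047790592, [28, 41, 54, 80, 63, 44, 23], [5, 6, 4, 5, 3, 4, 1, 3], 0, [([], 1), ([], 2), ([], 3), ([], 4), ([], 5), ([], 6), ([5, 4, 6, 5], 5), ([3, 2, 4, 3, 5, 4, 6, 5], 4), ([], 7), ([3, 1, 4, 3, 5, 4, 6, 5], 4), ([], 8), ([], 9), ([5, 4, 6, 5], 8), ([], 10)]⟩⟩,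
   ⟨[1, 2], [73, 78], 311676187869396584103936, .good ⟨[([], 1), ([], 2)], [78, 73], [1, 2], [(63, 63), (64, 64), (66, 66), (69, 83), (74, 79), (65, 65), (67, 67), (70, 84), (75, 80), (68, 68), (71, 85), (76, 81), (87, 87), (72, 86), (77, 82), (88, 88), (89, 89), (90, 90), (91, 91), (92, 92)], 9903208628871800765754114048, [24, 34, 46, 68, 54, 38, 20], [5, 6, 4, 5, 3, 4, 1, 3], 1, [([], 10), ([5, 4, 6, 5], 8), ([3, 2, 4, 3, 5, 4, 6, 5], 4), ([5, 4, 6, 5], 5), ([], 6), ([3, 1, 4, 3, 5, 4, 6, 5], 4), ([], 9)]⟩⟩,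
   ⟨[3], [69], 590295810358705651712, .good ⟨[([], 3)], [69], [3], [(63, 63), (64, 64), (66, 70), (73, 74), (78, 79), (65, 65), (67, 71), (75, 75), (80, 80), (83, 83), (68, 72), (76, 76), (81, 81), (84, 87), (77, 77), (82, 82), (85, 88), (86, 89), (90, 90), (91, 91), (92, 92)], 9903519714763859803632566272, [26, 37, 50, 72, 57, 40, 21], [5, 6, 4, 5, 3, 4, 2, 1], 0, [([], 1), ([], 2), ([], 3), ([], 4), ([], 5), ([], 6), ([5, 4, 6, 5], 5), ([3, 2, 4, 3, 5, 4, 6, 5], 4), ([], 7), ([3, 1, 4, 3, 5, 4, 6, 5], 4), ([], 8), ([], 9), ([5, 4, 6, 5], 8), ([], 10)]⟩⟩,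
   ⟨[1, 3], [69, 78, 79], 907284660521330586681344, .bad [1, 3, 1] 1⟩,
   ⟨[2, 3], [69, 73, 74], 28924494707576576933888, .bad [2, 3, 2] 2⟩,
   ⟨[1, 2, 3], [69, 73, 74, 78, 79, 83], 10607025416335581855612928, .bad [1, 2, 3, 1, 2, 3] 1⟩,
   ⟨[4], [66], 73786976294838206464, .good ⟨[([], 4)], [66], [4], [(63, 63), (64, 67), (69, 70), (73, 73), (78, 78), (65, 68), (71, 71), (74, 75), (79, 80), (72, 72), (76, 76), (81, 81), (83, 84), (77, 77), (82, 82), (85, 85), (87, 87), (86, 86), (88, 90), (89, 91), (92, 92)], 9903520231272693867500011520, [28, 40, 54, 78, 60, 42, 22], [5, 6, 4, 5, 3, 2, 1, 3], 0, [([], 1), ([], 2), ([], 3), ([], 4), ([], 5), ([], 6), ([5, 4, 6, 5], 5), ([3, 2, 4, 3, 5, 4, 6, 5], 4), ([], 7), ([3, 1, 4, 3, 5, 4, 6, 5], 4), ([], 8), ([], 9), ([5, 4, 6, 5], 8), ([], 10)]⟩⟩,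
   ⟨[1, 4], [66, 78], 302305241879952131883008, .good ⟨[([], 1), ([], 4)], [78, 66], [1, 4], [(63, 63), (64, 67), (69, 80), (70, 79), (73, 73), (65, 68), (71, 81), (74, 84), (75, 83), (72, 82), (76, 85), (87, 87), (77, 86), (88, 90), (89, 91), (92, 92)], 9903217999817790210206334976, [24, 33, 46, 66, 51, 36, 19], [3, 4, 5, 6, 1, 3, 4, 5, 3, 2, 1, 3], 2, [([], 2), ([], 3), ([], 4), ([], 5), ([], 6), ([5, 4, 6, 5], 5), ([3, 2, 4, 3], 4), ([5, 4, 3, 2, 6, 5, 4, 3], 5), ([3, 2, 4, 3, 5, 4, 6, 5], 4), ([], 7), ([3, 1, 4, 3], 4), ([5, 4, 3, 1, 6, 5, 4, 3], 5), ([3, 1, 4, 3, 5, 4, 6, 5], 4), ([], 8), ([], 9), ([5, 4, 6, 5], 8)]⟩⟩,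
   ⟨[2, 4], [66, 73], 9518519942034128633856, .good ⟨[([], 2), ([], 4)], [73, 66], [2, 4], [(63, 63), (64, 67), (69, 75), (70, 74), (78, 78), (65, 68), (71, 76), (79, 84), (80, 83), (72, 77), (81, 85), (87, 87), (82, 86), (88, 90), (89, 91), (92, 92)], 9903510786539728128209584128, [22, 32, 42, 62, 48, 34, 18], [3, 4, 5, 6, 2, 3, 4, 5, 3, 2, 1, 3], 2, [([], 2), ([], 3), ([], 4), ([], 5), ([], 6), ([5, 4, 6, 5], 5), ([3, 2, 4, 3], 4), ([5, 4, 3, 2, 6, 5, 4, 3], 5), ([3, 2, 4, 3, 5, 4, 6, 5], 4), ([], 7), ([3, 1, 4, 3], 4), ([5, 4, 3, 1, 6, 5, 4, 3], 5), ([3, 1, 4, 3, 5, 4, 6, 5], 4), ([], 8), ([], 9), ([5, 4, 6, 5], 8)]⟩⟩,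
   ⟨[1, 2, 4], [66, 73, 78], 311749974845691422310400, .good ⟨[([], 1), ([], 2), ([], 4)], [78, 73, 66], [1, 2, 4], [(63, 63), (64, 67), (69, 84), (70, 83), (74, 80), (75, 79), (65, 68), (71, 85), (76, 81), (87, 87), (72, 86), (77, 82), (88, 90), (89, 91), (92, 92)], 9903208555084824470915907584, [18, 25, 34, 50, 39, 28, 15], [3, 4, 5, 6, 2, 3, 4, 5, 3, 2, 1, 3], 3, [([], 8), ([3, 2, 4, 3], 4), ([], 5), ([], 6), ([5, 4, 3, 2, 6, 5, 4, 3], 5), ([3, 1, 4, 3], 4), ([5, 4, 3, 1, 6, 5, 4, 3], 5), ([], 9)]⟩⟩,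
   ⟨[3, 4], [66, 69, 70], 1844674407370955161600, .bad [3, 4, 3] 3⟩,
   ⟨[1, 3, 4], [66, 69, 70, 78, 79, 80], 2117464858732972010897408, .bad [1, 3, 1, 4, 3, 1] 1⟩,
   ⟨[2, 3, 4], [66, 69, 70, 73, 74, 75], 67957805167545988153344, .bad [2, 3, 2, 4, 3, 2] 2⟩,
   ⟨[1, 2, 3, 4], [66, 69, 70, 73, 74, 75, 78, 79, 80, 83, 84, 87], 185940302570916781599227904, .good ⟨[([3, 1, 2, 3], 4), ([], 1), ([], 2), ([], 4)], [87, 78, 73, 66], [3, 1, 2, 3, 4, 3, 2, 1, 3, 1, 2, 4], [(63, 63), (64, 90), (67, 88), (71, 85), (76, 81), (65, 91), (68, 89), (72, 86), (77, 82), (92, 92)], 9717580002488753380738990080, [10, 13, 18, 26, 21, 16, 9], [3, 4, 5, 6, 2, 3, 4, 5, 3, 2, 1, 3], 4, [([], 9), ([5, 4, 3, 2, 6, 5, 4, 3], 5), ([], 6), ([5, 4, 3, 1, 6, 5, 4, 3], 5)]⟩⟩]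

/-- Cases of node 18. -/
def cases18_1 : List JCase :=
  [⟨[5], [64], 18446744073709551616, .good ⟨[([], 5)], [64], [5], [(63, 65), (66, 67), (69, 69), (73, 73), (78, 78), (68, 68), (70, 71), (74, 74), (79, 79), (72, 72), (75, 76), (80, 81), (83, 83), (77, 77), (82, 82), (84, 85), (86, 86), (87, 88), (89, 89), (90, 90), (91, 92)], 9903520286612926088628666368, [30, 43, 58, 84, 65, 44, 23], [5, 6, 4, 3, 2, 1, 3, 4], 0, [([], 1), ([], 2), ([], 3), ([], 4), ([], 5), ([], 6), ([5, 4, 6, 5], 5), ([3, 2, 4, 3, 5, 4, 6, 5], 4), ([], 7), ([3, 1, 4, 3, 5, 4, 6, 5], 4), ([], 8), ([], 9), ([5, 4, 6, 5], 8), ([], 10)]⟩⟩,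
   ⟨[1, 5], [64, 78], 302249901647731003228160, .good ⟨[([], 1), ([], 5)], [78, 64], [1, 5], [(63, 65), (66, 67), (69, 79), (73, 73), (68, 68), (70, 81), (71, 80), (74, 83), (72, 82), (75, 85), (76, 84), (77, 86), (87, 88), (89, 89), (90, 90), (91, 92)], 9903218055158022431334989824, [26, 36, 50, 72, 56, 38, 20], [3, 4, 5, 6, 4, 3, 2, 1, 3, 4, 2, 3], 2, [([], 2), ([], 3), ([], 4), ([], 5), ([], 6), ([5, 4, 6, 5], 5), ([3, 2, 4, 3], 4), ([5, 4, 3, 2, 6, 5, 4, 3], 5), ([3, 2, 4, 3, 5, 4, 6, 5], 4), ([], 7), ([3, 1, 4, 3], 4), ([5, 4, 3, 1, 6, 5, 4, 3], 5), ([3, 1, 4, 3, 5, 4, 6, 5], 4), ([], 8), ([], 9), ([5, 4, 6, 5], 8)]⟩⟩,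
   ⟨[2, 5], [64, 73], 9463179709812999979008, .good ⟨[([], 2), ([], 5)], [73, 64], [2, 5], [(63, 65), (66, 67), (69, 74), (78, 78), (68, 68), (70, 76), (71, 75), (79, 83), (72, 77), (80, 85), (81, 84), (82, 86), (87, 88), (89, 89), (90, 90), (91, 92)], 9903510841879960349338238976, [24, 35, 46, 68, 53, 36, 19], [3, 4, 5, 6, 4, 3, 2, 1, 3, 4, 1, 3], 2, [([], 2), ([], 3), ([], 4), ([], 5), ([], 6), ([5, 4, 6, 5], 5), ([3, 2, 4, 3], 4), ([5, 4, 3, 2, 6, 5, 4, 3], 5), ([3, 2, 4, 3, 5, 4, 6, 5], 4), ([], 7), ([3, 1, 4, 3], 4), ([5, 4, 3, 1, 6, 5, 4, 3], 5), ([3, 1, 4, 3, 5, 4, 6, 5], 4), ([], 8), ([], 9), ([5, 4, 6, 5], 8)]⟩⟩,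
   ⟨[1, 2, 5], [64, 73, 78], 311694634613470293655552, .good ⟨[([], 1), ([], 2), ([], 5)], [78, 73, 64], [1, 2, 5], [(63, 65), (66, 67), (69, 83), (74, 79), (68, 68), (70, 85), (71, 84), (75, 81), (76, 80), (72, 86), (77, 82), (87, 88), (89, 89), (90, 90), (91, 92)], 9903208610425056692044562432, [20, 28, 38, 56, 44, 30, 16], [3, 4, 5, 6, 4, 3, 2, 1, 3, 4, 1, 3], 3, [([], 8), ([3, 2, 4, 3], 4), ([], 5), ([], 6), ([5, 4, 3, 2, 6, 5, 4, 3], 5), ([3, 1, 4, 3], 4), ([5, 4, 3, 1, 6, 5, 4, 3], 5), ([], 9)]⟩⟩,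
   ⟨[3, 5], [64, 69], 608742554432415203328, .good ⟨[([], 3), ([], 5)], [69, 64], [3, 5], [(63, 65), (66, 71), (67, 70), (73, 74), (78, 79), (68, 72), (75, 76), (80, 81), (83, 83), (77, 77), (82, 82), (84, 88), (85, 87), (86, 89), (90, 90), (91, 92)], 9903519696317115729923014656, [22, 31, 42, 60, 47, 32, 17], [3, 4, 5, 6, 4, 3, 2, 1, 3, 4, 2, 1], 2, [([], 2), ([], 3), ([], 4), ([], 5), ([], 6), ([5, 4, 6, 5], 5), ([3, 2, 4, 3], 4), ([5, 4, 3, 2, 6, 5, 4, 3], 5), ([3, 2, 4, 3, 5, 4, 6, 5], 4), ([], 7), ([3, 1, 4, 3], 4), ([5, 4, 3, 1, 6, 5, 4, 3], 5), ([3, 1, 4, 3, 5, 4, 6, 5], 4), ([], 8), ([], 9), ([5, 4, 6, 5], 8)]⟩⟩,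
   ⟨[1, 3, 5], [64, 69, 78, 79], 907303107265404296232960, .bad [1, 3, 1, 5] 1⟩,
   ⟨[2, 3, 5], [64, 69, 73, 74], 28942941451650286485504, .bad [2, 3, 2, 5] 2⟩,
   ⟨[1, 2, 3, 5], [64, 69, 73, 74, 78, 79, 83], 10607043863079655565164544, .bad [1, 2, 3, 1, 2, 3, 5] 1⟩,
   ⟨[4, 5], [64, 66, 67], 239807672958224171008, .bad [4, 5, 4] 4⟩,
   ⟨[1, 4, 5], [64, 66, 67, 78], 302471262576615517847552, .bad [1, 4, 5, 4] 4⟩,
   ⟨[2, 4, 5], [64, 66, 67, 73], 9684540638697514598400, .bad [2, 4, 5, 4] 4⟩,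
   ⟨[1, 2, 4, 5], [64, 66, 67, 73, 78], 311915995542354808274944, .bad [1, 2, 4, 5, 4] 4⟩,
   ⟨[3, 4, 5], [64, 66, 67, 69, 70, 71], 4371878345469163732992, .bad [3, 4, 3, 5, 4, 3] 3⟩,
   ⟨[1, 3, 4, 5], [64, 66, 67, 69, 70, 71, 78, 79, 80, 81], 4537843701900328568881152, .bad [1, 3, 1, 4, 3, 1, 5, 4, 3, 1] 1⟩,
   ⟨[2, 3, 4, 5], [64, 66, 67, 69, 70, 71, 73, 74, 75, 76], 146042872831558520143872, .bad [2, 3, 2, 4, 3, 2, 5, 4, 3, 2] 2⟩,
   ⟨[1, 2, 3, 4, 5], [64, 66, 67, 69, 70, 71, 73, 74, 75, 76, 78, 79, 80, 81, 83, 84, 85, 87, 88, 90], 1774546914612203529695133696, .bad [1, 2, 3, 1, 2, 3, 4, 3, 1, 2, 3, 4, 5, 4, 3, 1, 2, 3, 4, 5] 1⟩]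

/-- Cases of node 18. -/
def cases18_2 : List JCase :=
  [⟨[6], [63], 9223372036854775808, .good ⟨[([], 6)], [63], [6], [(64, 65), (66, 66), (69, 69), (73, 73), (78, 78), (67, 68), (70, 70), (74, 74), (79, 79), (71, 72), (75, 75), (80, 80), (83, 83), (76, 77), (81, 82), (84, 84), (85, 86), (87, 87), (88, 89), (90, 91), (92, 92)], 9903520295836298125483442176, [32, 46, 62, 90, 70, 48, 24], [5, 4, 3, 2, 1, 3, 4, 5], 0, [([], 1), ([], 2), ([], 3), ([], 4), ([], 5), ([], 6), ([5, 4, 6, 5], 5), ([3, 2, 4, 3, 5, 4, 6, 5], 4), ([], 7), ([3, 1, 4, 3, 5, 4, 6, 5], 4), ([], 8), ([], 9), ([5, 4, 6, 5], 8), ([], 10)]⟩⟩,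
   ⟨[1, 6], [63, 78], 302240678275694148452352, .good ⟨[([], 1), ([], 6)], [78, 63], [1, 6], [(64, 65), (66, 66), (69, 79), (73, 73), (67, 68), (70, 80), (74, 83), (71, 82), (72, 81), (75, 84), (76, 86), (77, 85), (87, 87), (88, 89), (90, 91), (92, 92)], 9903218064381394468189765632, [28, 39, 54, 78, 61, 42, 21], [5, 4, 3, 2, 1, 3, 4, 5, 3, 4, 2, 3], 2, [([], 2), ([], 3), ([], 4), ([], 5), ([], 6), ([5, 4, 6, 5], 5), ([3, 2, 4, 3], 4), ([5, 4, 3, 2, 6, 5, 4, 3], 5), ([3, 2, 4, 3, 5, 4, 6, 5], 4), ([], 7), ([3, 1, 4, 3], 4), ([5, 4, 3, 1, 6, 5, 4, 3], 5), ([3, 1, 4, 3, 5, 4, 6, 5], 4), ([], 8), ([], 9), ([5, 4, 6, 5], 8)]⟩⟩,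
   ⟨[2, 6], [63, 73], 9453956337776145203200, .good ⟨[([], 2), ([], 6)], [73, 63], [2, 6], [(64, 65), (66, 66), (69, 74), (78, 78), (67, 68), (70, 75), (79, 83), (71, 77), (72, 76), (80, 84), (81, 86), (82, 85), (87, 87), (88, 89), (90, 91), (92, 92)], 9903510851103332386193014784, [26, 38, 50, 74, 58, 40, 20], [5, 4, 3, 2, 1, 3, 4, 5, 3, 4, 1, 3], 2, [([], 2), ([], 3), ([], 4), ([], 5), ([], 6), ([5, 4, 6, 5], 5), ([3, 2, 4, 3], 4), ([5, 4, 3, 2, 6, 5, 4, 3], 5), ([3, 2, 4, 3, 5, 4, 6, 5], 4), ([], 7), ([3, 1, 4, 3], 4), ([5, 4, 3, 1, 6, 5, 4, 3], 5), ([3, 1, 4, 3, 5, 4, 6, 5], 4), ([], 8), ([], 9), ([5, 4, 6, 5], 8)]⟩⟩,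
   ⟨[1, 2, 6], [63, 73, 78], 311685411241433438879744, .good ⟨[([], 1), ([], 2), ([], 6)], [78, 73, 63], [1, 2, 6], [(64, 65), (66, 66), (69, 83), (74, 79), (67, 68), (70, 84), (75, 80), (71, 86), (72, 85), (76, 82), (77, 81), (87, 87), (88, 89), (90, 91), (92, 92)], 9903208619648428728899338240, [22, 31, 42, 62, 49, 34, 17], [5, 4, 3, 2, 1, 3, 4, 5, 3, 4, 1, 3], 3, [([], 8), ([3, 2, 4, 3], 4), ([], 5), ([], 6), ([5, 4, 3, 2, 6, 5, 4, 3], 5), ([3, 1, 4, 3], 4), ([5, 4, 3, 1, 6, 5, 4, 3], 5), ([], 9)]⟩⟩,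
   ⟨[3, 6], [63, 69], 599519182395560427520, .good ⟨[([], 3), ([], 6)], [69, 63], [3, 6], [(64, 65), (66, 70), (73, 74), (78, 79), (67, 72), (68, 71), (75, 75), (80, 80), (83, 83), (76, 77), (81, 82), (84, 87), (85, 89), (86, 88), (90, 91), (92, 92)], 9903519705540487766777790464, [24, 34, 46, 66, 52, 36, 18], [5, 4, 3, 2, 1, 3, 4, 5, 3, 4, 2, 1], 2, [([], 2), ([], 3), ([], 4), ([], 5), ([], 6), ([5, 4, 6, 5], 5), ([3, 2, 4, 3], 4), ([5, 4, 3, 2, 6, 5, 4, 3], 5), ([3, 2, 4, 3, 5, 4, 6, 5], 4), ([], 7), ([3, 1, 4, 3], 4), ([5, 4, 3, 1, 6, 5, 4, 3], 5), ([3, 1, 4, 3, 5, 4, 6, 5], 4), ([], 8), ([], 9), ([5, 4, 6, 5], 8)]⟩⟩,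
   ⟨[1, 3, 6], [63, 69, 78, 79], 907293883893367441457152, .bad [1, 3, 1, 6] 1⟩,
   ⟨[2, 3, 6], [63, 69, 73, 74], 28933718079613431709696, .bad [2, 3, 2, 6] 2⟩,
   ⟨[1, 2, 3, 6], [63, 69, 73, 74, 78, 79, 83], 10607034639707618710388736, .bad [1, 2, 3, 1, 2, 3, 6] 1⟩,
   ⟨[4, 6], [63, 66], 83010348331692982272, .good ⟨[([], 4), ([], 6)], [66, 63], [4, 6], [(64, 68), (65, 67), (69, 70), (73, 73), (78, 78), (71, 72), (74, 75), (79, 80), (76, 77), (81, 82), (83, 84), (85, 86), (87, 87), (88, 91), (89, 90), (92, 92)], 9903520222049321830645235712, [26, 37, 50, 72, 55, 38, 19], [5, 4, 3, 2, 1, 3, 4, 5, 3, 2, 1, 3], 2, [([], 2), ([], 3), ([], 4), ([], 5), ([], 6), ([5, 4, 6, 5], 5), ([3, 2, 4, 3], 4), ([5, 4, 3, 2, 6, 5, 4, 3], 5), ([3, 2, 4, 3, 5, 4, 6, 5], 4), ([], 7), ([3, 1, 4, 3], 4), ([5, 4, 3, 1, 6, 5, 4, 3], 5), ([3, 1, 4, 3, 5, 4, 6, 5], 4), ([], 8), ([], 9), ([5,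 4, 6, 5], 8)]⟩⟩,
   ⟨[1, 4, 6], [63, 66, 78], 302314465251988986658816, .good ⟨[([], 1), ([], 4), ([], 6)], [78, 66, 63], [1, 4, 6], [(64, 68), (65, 67), (69, 80), (70, 79), (73, 73), (71, 82), (72, 81), (74, 84), (75, 83), (76, 86), (77, 85), (87, 87), (88, 91), (89, 90), (92, 92)], 9903217990594418173351559168, [22, 30, 42, 60, 46, 32, 16], [5, 4, 3, 2, 1, 3, 4, 5, 3, 2, 1, 3], 5, [([], 3), ([], 4), ([], 5), ([], 6), ([5, 4, 6, 5], 5), ([3, 2, 4, 3], 4), ([5, 4, 3, 2, 6, 5, 4, 3], 5), ([3, 2, 4, 3, 5, 4, 6, 5], 4)]⟩⟩,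
   ⟨[2, 4, 6], [63, 66, 73], 9527743314070983409664, .good ⟨[([], 2), ([], 4), ([], 6)], [73, 66, 63], [2, 4, 6], [(64, 68), (65, 67), (69, 75), (70, 74), (78, 78), (71, 77), (72, 76), (79, 84), (80, 83), (81, 86), (82, 85), (87, 87), (88, 91), (89, 90), (92, 92)], 9903510777316356091354808320, [20, 29, 38, 56, 43, 30, 15], [5, 4, 3, 2, 1, 3, 4, 5, 3, 2, 1, 3], 6, [([], 7), ([], 4), ([], 5), ([], 6), ([5, 4, 6, 5], 5), ([3, 1, 4, 3], 4), ([5, 4, 3, 1, 6, 5, 4, 3], 5), ([3, 1, 4, 3, 5, 4, 6, 5], 4)]⟩⟩,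
   ⟨[1, 2, 4, 6], [63, 66, 73, 78], 311759198217728277086208, .good ⟨[([], 1), ([], 2), ([], 4), ([], 6)], [78, 73, 66, 63], [1, 2, 4, 6], [(64, 68), (65, 67), (69, 84), (70, 83), (74, 80), (75, 79), (71, 86), (72, 85), (76, 82), (77, 81), (87, 87), (88, 91), (89, 90), (92, 92)], 9903208545861452434061131776, [16, 22, 30, 44, 34, 24, 12], [5, 4, 3, 2, 1, 3, 4, 5, 3, 2, 1, 3], 7, [([], 4), ([], 5), ([], 6), ([5, 4, 6, 5], 5)]⟩⟩,
   ⟨[3, 4, 6], [63, 66, 69, 70], 1853897779407809937408, .bad [3, 4, 3, 6] 3⟩,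
   ⟨[1, 3, 4, 6], [63, 66, 69, 70, 78, 79, 80], 2117474082105008865673216, .bad [1, 3, 1, 4, 3, 1, 6] 1⟩,
   ⟨[2, 3, 4, 6], [63, 66, 69, 70, 73, 74, 75], 67967028539582842929152, .bad [2, 3, 2, 4, 3, 2, 6] 2⟩,
   ⟨[1, 2, 3, 4, 6], [63, 66, 69, 70, 73, 74, 75, 78, 79, 80, 83, 84, 87], 185940311794288818454003712, .good ⟨[([3, 1, 2, 3], 4), ([], 1), ([], 2), ([], 4), ([], 6)], [87, 78, 73, 66, 63], [3, 1, 2, 3, 4, 3, 2, 1, 3, 1, 2, 4, 6], [(64, 91), (65, 90), (67, 89), (68, 88), (71, 86), (72, 85), (76, 82), (77, 81), (92, 92)], 9717579993265381343884214272, [8, 10, 14, 20, 16, 12, 6], [5, 4, 3, 2, 1, 3, 4, 5, 3, 2, 1, 3], 8, [([], 5), ([], 6)]⟩⟩]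

/-- Cases of node 18. -/
def cases18_3 : List JCase :=
  [⟨[5, 6], [63, 64, 65], 64563604257983430656, .bad [5, 6, 5] 5⟩,
   ⟨[1, 5, 6], [63, 64, 65, 78], 302296018507915277107200, .bad [1, 5, 6, 5] 5⟩,
   ⟨[2, 5, 6], [63, 64, 65, 73], 9509296569997273858048, .bad [2, 5, 6, 5] 5⟩,
   ⟨[1, 2, 5, 6], [63, 64, 65, 73, 78], 311740751473654567534592, .bad [1, 2, 5, 6, 5] 5⟩,
   ⟨[3, 5, 6], [63, 64, 65, 69], 654859414616689082368, .bad [3, 5, 6, 5] 5⟩,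
   ⟨[1, 3, 5, 6], [63, 64, 65, 69, 78, 79], 907349224125588570112000, .bad [1, 3, 1, 5, 6, 5] 1⟩,
   ⟨[2, 3, 5, 6], [63, 64, 65, 69, 73, 74], 28989058311834560364544, .bad [2, 3, 2, 5, 6, 5] 2⟩,
   ⟨[1, 2, 3, 5, 6], [63, 64, 65, 69, 73, 74, 78, 79, 83], 10607089979939839839043584, .bad [1, 2, 3, 1, 2, 3, 5, 6, 5] 1⟩,
   ⟨[4, 5, 6], [63, 64, 65, 66, 67, 68], 581072438321850875904, .bad [4, 5, 4, 6, 5, 4] 4⟩,
   ⟨[1, 4, 5, 6], [63, 64, 65, 66, 67, 68, 78], 302812527341979144552448, .bad [1, 4, 5, 4, 6, 5, 4] 4⟩,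
   ⟨[2, 4, 5, 6], [63, 64, 65, 66, 67, 68, 73], 10025805404061141303296, .bad [2, 4, 5, 4, 6, 5, 4] 4⟩,
   ⟨[1, 2, 4, 5, 6], [63, 64, 65, 66, 67, 68, 73, 78], 312257260307718434979840, .bad [1, 2, 4, 5, 4, 6, 5, 4] 4⟩,
   ⟨[3, 4, 5, 6], [63, 64, 65, 66, 67, 68, 69, 70, 71, 72], 9435509593702435651584, .bad [3, 4, 3, 5, 4, 3, 6, 5, 4, 3] 3⟩,
   ⟨[1, 3, 4, 5, 6], [63, 64, 65, 66, 67, 68, 69, 70, 71, 72, 78, 79, 80, 81, 82], 9378610611607078539624448, .bad [1, 3, 1, 4, 3, 1, 5, 4, 3, 1, 6, 5, 4, 3, 1] 1⟩,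
   ⟨[2, 3, 4, 5, 6], [63, 64, 65, 66, 67, 68, 69, 70, 71, 72, 73, 74, 75, 76, 77], 302222231531620438900736, .bad [2, 3, 2, 4, 3, 2, 5, 4, 3, 2, 6, 5, 4, 3, 2] 2⟩,
   ⟨[1, 2, 3, 4, 5, 6], [63, 64, 65, 66, 67, 68, 69, 70, 71, 72, 73, 74, 75, 76, 77, 78, 79, 80, 81, 82, 83, 84, 85, 86, 87, 88, 89, 90, 91, 92], 9903520305059670162338217984, .good ⟨[([5, 4, 3, 1, 2, 3, 4, 5], 6), ([3, 1, 2, 3], 4), ([], 1), ([], 2), ([], 4), ([], 6)], [92, 87, 78, 73, 66, 63], [5, 4, 3, 1, 2, 3, 4, 5, 6, 5, 4, 3, 2, 1, 3, 4, 5, 3, 1, 2, 3, 4, 3, 2, 1, 3, 1, 2, 4, 6], [], 0, [4, 4, 6, 8, 6, 4, 2], [5, 4, 3, 2, 1, 3, 4, 5, 3, 2, 1, 3], 9, [([], 6)]⟩⟩]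

/-- Node 18. -/
def node18 : Node :=
  ⟨[1, 2, 3, 4, 5, 6], roots18, 9903520314283042190603059200, reps18, [1, 2, 3, 1, 2, 3, 4, 3, 1, 2, 3, 4, 5, 4, 3, 1, 2, 3, 4, 5, 6, 5, 4, 3, 1, 2, 3, 4, 5, 6], cases18_0 ++ cases18_1 ++ cases18_2 ++ cases18_3,
    [(roots17, reps17), (roots16, reps16), (roots15, reps15), (roots13, reps13), (roots12, reps12), (roots7, reps7), (roots11, reps11), (roots3, reps3), (roots1, reps1), (roots0, reps0)]⟩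

/-- The roots of node 19. -/
def roots19 : List ℕ := [0, 1, 2, 3, 4, 5, 6, 7, 8, 9, 10, 11, 12, 13, 14, 15, 16, 17, 18, 19, 20, 21, 22, 23, 24, 25, 26, 27, 28, 29, 30, 31, 32, 33, 34, 35, 36, 37, 38, 39, 40, 41, 42, 43, 44, 45, 46, 47, 48, 49, 50, 51, 52, 53, 54, 55, 56, 57, 58, 59, 60, 61, 62, 63, 64, 65, 66, 67, 68, 69, 70, 71, 72, 73, 74, 75, 76, 77, 78, 79, 80, 81, 82, 83, 84, 85, 86, 87, 88, 89, 90, 91, 92, 93, 94, 95, 96, 97, 98, 99, 100, 101, 102, 103, 104, 105, 106, 107, 108, 109, 110, 111, 112, 113, 114, 115, 116, 117, 118, 119, 120, 121, 122, 123, 124, 125]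

/-- The products of node 19. -/
def reps19 : List (List ℕ) := [[], [125], [92, 125], [87, 92, 125], [78, 87, 92, 125], [73, 78, 87, 92, 125], [66, 73, 78, 87, 92, 125], [63, 66, 73, 78, 87, 92, 125], [73, 87, 92, 125], [63, 92, 125]]

/-- Cases of node 19. -/
def cases19_0 : List JCase :=
  [⟨[], [], 0, .none⟩,
   ⟨[0], [93], 9903520314283042199192993792, .good ⟨[([], 0)], [93], [0], [(63, 63), (64, 64), (66, 66), (69, 69), (73, 94), (78, 78), (65, 65), (67, 67), (70, 70), (74, 95), (79, 79), (68, 68), (71, 71), (75, 96), (80, 80), (83, 99), (72, 72), (76, 97), (81, 81), (84, 100), (77, 98), (82, 82), (85, 101), (87, 103), (86, 102), (88, 104), (109, 109), (89, 105), (90, 106), (110, 110), (91, 107), (111, 111), (112, 112), (92, 108), (113, 113), (115, 115), (114, 114), (116, 116), (119, 119), (117, 117), (120, 120), (118, 118), (121, 121), (122, 122), (123, 123),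 (124, 125)], 85070591720331095542337237621894283264, [30, 45, 60, 88, 69, 48, 25], [0, 2, 3, 4, 5, 6, 1, 3, 4, 5, 2, 3, 4, 1, 3, 2], 0, [([], 1), ([], 2), ([], 3), ([], 4), ([], 5), ([], 6), ([], 7), ([], 8), ([0, 2, 3, 1, 4, 3, 2, 0], 4), ([3, 2, 0, 4, 3, 2, 5, 4, 3, 1, 6, 5, 4, 3, 2, 0], 5), ([], 9)]⟩⟩,
   ⟨[1], [78], 302231454903657293676544, .good ⟨[([], 1)], [78], [1], [(63, 63), (64, 64), (66, 66), (69, 79), (73, 73), (93, 93), (65, 65), (67, 67), (70, 80), (74, 83), (94, 94), (68, 68), (71, 81), (75, 84), (95, 99), (72, 82), (76, 85), (87, 87), (96, 100), (77, 86), (88, 88), (97, 101), (103, 103), (89, 89), (90, 90), (98, 102), (104, 104), (109, 109), (91, 91), (105, 105), (106, 106), (110, 110), (92, 92), (107, 107), (111, 111), (112, 112), (108, 108), (113, 113), (115, 119), (114, 114), (116, 120), (117, 121), (118, 122), (123, 123), (124, 124), (125, 125)],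 85070591730234313625165376163793600512, [30, 42, 58, 84, 66, 46, 24], [0, 2, 3, 4, 5, 6, 1, 3, 4, 5, 2, 3, 4, 0, 2, 3], 0, [([], 1), ([], 2), ([], 3), ([], 4), ([], 5), ([], 6), ([], 7), ([], 8), ([0, 2, 3, 1, 4, 3, 2, 0], 4), ([3, 2, 0, 4, 3, 2, 5, 4, 3, 1, 6, 5, 4, 3, 2, 0], 5), ([], 9)]⟩⟩,
   ⟨[0, 1], [78, 93], 9903822545737945856486670336, .good ⟨[([], 0), ([], 1)], [93, 78], [0, 1], [(63, 63), (64, 64), (66, 66), (69, 79), (73, 94), (65, 65), (67, 67), (70, 80), (74, 99), (83, 95), (68, 68), (71, 81), (75, 100), (84, 96), (72, 82), (76, 101), (85, 97), (87, 103), (77, 102), (86, 98), (88, 104), (109, 109), (89, 105), (90, 106), (110, 110), (91, 107), (111, 111), (112, 112), (92, 108), (113, 113), (115, 119), (114, 114), (116, 120), (117, 121), (118, 122), (123, 123), (124, 125)], 85070591720330793310882333964600606720, [26, 38, 52, 76, 60, 42, 22], [5, 4, 3,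 0, 2, 1, 3, 4, 5, 6, 0, 2, 1, 3, 4, 5, 2, 1, 3, 4, 0, 2, 3, 2], 1, [([], 2), ([], 3), ([], 4), ([], 5), ([], 6), ([], 7), ([5, 4, 6, 5], 6), ([3, 2, 4, 3, 5, 4, 6, 5], 5), ([], 8), ([3, 1, 4, 3, 5, 4, 6, 5], 5), ([0, 2, 3, 1, 4, 3, 2, 0], 4), ([3, 2, 0, 4, 3, 2, 5, 4, 3, 1, 6, 5, 4, 3, 2, 0], 5), ([0, 2, 3, 1, 4, 3, 2, 0, 5, 4, 6, 5], 4), ([], 9)]⟩⟩,
   ⟨[2], [73], 9444732965739290427392, .good ⟨[([], 2)], [73], [2], [(63, 63), (64, 64), (66, 66), (69, 74), (78, 78), (93, 94), (65, 65), (67, 67), (70, 75), (79, 83), (95, 95), (68, 68), (71, 76), (80, 84), (96, 96), (99, 99), (72, 77), (81, 85), (87, 87), (97, 97), (100, 100), (82, 86), (88, 88), (98, 98), (101, 101), (103, 109), (89, 89), (90, 90), (102, 102), (104, 110), (91, 91), (105, 111), (106, 112), (92, 92), (107, 113), (115, 115), (108, 114), (116, 116), (119, 119), (117, 117), (120, 120), (118, 118), (121,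 121), (122, 122), (123, 124), (125, 125)], 85070591730234606411887314081796849664, [28, 41, 54, 80, 63, 44, 23], [0, 2, 3, 4, 5, 6, 1, 3, 4, 5, 2, 3, 4, 1, 3, 0], 0, [([], 1), ([], 2), ([], 3), ([], 4), ([], 5), ([], 6), ([], 7), ([], 8), ([0, 2, 3, 1, 4, 3, 2, 0], 4), ([3, 2, 0, 4, 3, 2, 5, 4, 3, 1, 6, 5, 4, 3, 2, 0], 5), ([], 9)]⟩⟩,
   ⟨[0, 2], [73, 93, 94], 29710570387582092336869408768, .bad [0, 2, 0] 0⟩,
   ⟨[1, 2], [73, 78], 311676187869396584103936, .good ⟨[([], 1), ([], 2)], [78, 73], [1, 2], [(63, 63), (64, 64), (66, 66), (69, 83), (74, 79), (93, 94), (65, 65), (67, 67), (70, 84), (75, 80), (95, 99), (68, 68), (71, 85), (76, 81), (87, 87), (96, 100), (72, 86), (77, 82), (88, 88), (97, 101), (103, 109), (89, 89), (90, 90), (98, 102), (104, 110), (91, 91), (105, 111), (106, 112), (92, 92), (107, 113), (115, 119), (108, 114), (116, 120), (117, 121), (118, 122),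 (123, 124), (125, 125)], 85070591730234304180432410424503173120, [24, 34, 46, 68, 54, 38, 20], [5, 4, 3, 0, 2, 1, 3, 4, 5, 6, 0, 2, 1, 3, 4, 5, 2, 1, 3, 4, 2, 1, 3, 0], 1, [([], 2), ([], 3), ([], 4), ([], 5), ([], 6), ([], 7), ([5, 4, 6, 5], 6), ([3, 2, 4, 3, 5, 4, 6, 5], 5), ([], 8), ([3, 1, 4, 3, 5, 4, 6, 5], 5), ([0, 2, 3, 1, 4, 3, 2, 0], 4), ([3, 2, 0, 4, 3, 2, 5, 4, 3, 1, 6, 5, 4, 3, 2, 0], 5), ([0, 2, 3, 1, 4, 3, 2, 0, 5, 4, 6, 5], 4), ([], 9)]⟩⟩,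
   ⟨[0, 1, 2], [73, 78, 93, 94], 29710872619036995994163085312, .bad [0, 1, 2, 0] 0⟩,
   ⟨[3], [69], 590295810358705651712, .good ⟨[([], 3)], [69], [3], [(63, 63), (64, 64), (66, 70), (73, 74), (78, 79), (93, 93), (65, 65), (67, 71), (75, 75), (80, 80), (83, 83), (94, 95), (68, 72), (76, 76), (81, 81), (84, 87), (96, 96), (99, 99), (77, 77), (82, 82), (85, 88), (97, 97), (100, 103), (86, 89), (90, 90), (98, 98), (101, 104), (109, 109), (91, 91), (102, 105), (106, 106), (110, 110), (92, 92), (107, 107), (111, 111), (112, 115), (108, 108), (113, 116), (119, 119), (114, 117), (120, 120), (118, 118), (121, 121), (122, 123), (124, 124), (125, 125)], 85070591730234615266324469462381625344, [26, 37, 50, 72, 57, 40, 21], [0, 2, 3, 4, 5, 6, 1, 3, 4, 5, 2, 3, 4, 0, 2, 1], 0, [([], 1), ([], 2), ([], 3), ([], 4), ([], 5), ([], 6), ([], 7), ([], 8), ([0, 2, 3, 1, 4, 3, 2, 0],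 4), ([3, 2, 0, 4, 3, 2, 5, 4, 3, 1, 6, 5, 4, 3, 2, 0], 5), ([], 9)]⟩⟩,
   ⟨[0, 3], [69, 93], 9903520904578852557898645504, .good ⟨[([], 0), ([], 3)], [93, 69], [0, 3], [(63, 63), (64, 64), (66, 70), (73, 95), (74, 94), (78, 79), (65, 65), (67, 71), (75, 96), (80, 80), (83, 99), (68, 72), (76, 97), (81, 81), (84, 103), (87, 100), (77, 98), (82, 82), (85, 104), (88, 101), (109, 109), (86, 105), (89, 102), (90, 106), (110, 110), (91, 107), (111, 111), (112, 115), (92, 108), (113, 116), (119, 119), (114, 117), (120, 120), (118, 118), (121, 121), (122, 123), (124, 125)], 85070591720331094952041427263188631552, [22, 33, 44, 64, 51, 36, 19], [5, 4, 3, 0, 2, 1, 3, 4, 5, 6, 0, 2, 1, 3, 4, 5, 2, 1, 3, 4, 3, 0, 2, 1], 1, [([], 2), ([], 3), ([], 4), ([], 5), ([], 6), ([], 7), ([5, 4, 6, 5], 6), ([3, 2, 4, 3, 5, 4, 6, 5], 5), ([], 8), ([3, 1, 4, 3, 5, 4, 6, 5], 5), ([0, 2, 3,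 1, 4, 3, 2, 0], 4), ([3, 2, 0, 4, 3, 2, 5, 4, 3, 1, 6, 5, 4, 3, 2, 0], 5), ([0, 2, 3, 1, 4, 3, 2, 0, 5, 4, 6, 5], 4), ([], 9)]⟩⟩,
   ⟨[1, 3], [69, 78, 79], 907284660521330586681344, .bad [1, 3, 1] 1⟩,
   ⟨[0, 1, 3], [69, 78, 79, 93], 9904427598943563529779675136, .bad [0, 1, 3, 1] 1⟩,
   ⟨[2, 3], [69, 73, 74], 28924494707576576933888, .bad [2, 3, 2] 2⟩,
   ⟨[0, 2, 3], [69, 73, 74, 93, 94, 95], 69324671124476002970927890432, .bad [0, 2, 0, 3, 2, 0] 0⟩,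
   ⟨[1, 2, 3], [69, 73, 74, 78, 79, 83], 10607025416335581855612928, .bad [1, 2, 3, 1, 2, 3] 1⟩,
   ⟨[0, 1, 2, 3], [69, 73, 74, 78, 79, 83, 93, 94, 95, 99], 703160549339512331724558172160, .bad [0, 1, 2, 0, 3, 1, 2, 0, 3, 2] 0⟩]

/-- Cases of node 19. -/
def cases19_1 : List JCase :=
  [⟨[4], [66], 73786976294838206464, .good ⟨[([], 4)], [66], [4], [(63, 63), (64, 67), (69, 70), (73, 73), (78, 78), (93, 93), (65, 68), (71, 71), (74, 75), (79, 80), (94, 94), (72, 72), (76, 76), (81, 81), (83, 84), (95, 96), (77, 77), (82, 82), (85, 85), (87, 87), (97, 97), (99, 100), (86, 86), (88, 90), (98, 98), (101, 101), (103, 103), (89, 91), (102, 102), (104, 106), (109, 109), (92, 92), (105, 107), (110, 112), (108, 108), (111, 113), (115, 115), (114, 114), (116, 116), (119, 119), (117, 118), (120, 120), (121, 122), (123, 123), (124, 124), (125, 125)], 85070591730234615782833303526249070592,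 [28, 40, 54, 78, 60, 42, 22], [0, 2, 3, 4, 5, 6, 1, 3, 4, 5, 2, 3, 0, 2, 1, 3], 0, [([], 1), ([], 2), ([], 3), ([], 4), ([], 5), ([], 6), ([], 7), ([], 8), ([0, 2, 3, 1, 4, 3, 2, 0], 4), ([3, 2, 0, 4, 3, 2, 5, 4, 3, 1, 6, 5, 4, 3, 2, 0], 5), ([], 9)]⟩⟩,
   ⟨[0, 4], [66, 93], 9903520388070018494031200256, .good ⟨[([], 0), ([], 4)], [93, 66], [0, 4], [(63, 63), (64, 67), (69, 70), (73, 94), (78, 78), (65, 68), (71, 71), (74, 96), (75, 95), (79, 80), (72, 72), (76, 97), (81, 81), (83, 100), (84, 99), (77, 98), (82, 82), (85, 101), (87, 103), (86, 102), (88, 106), (90, 104), (109, 109), (89, 107), (91, 105), (110, 112), (92, 108), (111, 113), (115, 115), (114, 114), (116, 116), (119, 119), (117, 118), (120, 120), (121, 122), (123, 123), (124, 125)], 85070591720331095468550261327056076800, [24, 36, 48, 70, 54, 38, 20], [5, 4, 3, 0, 2, 1, 3, 4, 5, 6, 0, 2, 1, 3, 4, 5,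 4, 2, 3, 0, 2, 1, 3, 2], 1, [([], 2), ([], 3), ([], 4), ([], 5), ([], 6), ([], 7), ([5, 4, 6, 5], 6), ([3, 2, 4, 3, 5, 4, 6, 5], 5), ([], 8), ([3, 1, 4, 3, 5, 4, 6, 5], 5), ([0, 2, 3, 1, 4, 3, 2, 0], 4), ([3, 2, 0, 4, 3, 2, 5, 4, 3, 1, 6, 5, 4, 3, 2, 0], 5), ([0, 2, 3, 1, 4, 3, 2, 0, 5, 4, 6, 5], 4), ([], 9)]⟩⟩,
   ⟨[1, 4], [66, 78], 302305241879952131883008, .good ⟨[([], 1), ([], 4)], [78, 66], [1, 4], [(63, 63), (64, 67), (69, 80), (70, 79), (73, 73), (93, 93), (65, 68), (71, 81), (74, 84), (75, 83), (94, 94), (72, 82), (76, 85), (87, 87), (95, 100), (96, 99), (77, 86), (88, 90), (97, 101), (103, 103), (89, 91), (98, 102), (104, 106), (109, 109), (92, 92), (105, 107), (110, 112), (108, 108), (111, 113), (115, 119), (114, 114), (116, 120), (117, 122), (118, 121), (123, 123), (124, 124), (125, 125)], 85070591730234313551378399868955394048, [24, 33, 46, 66, 51, 36,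 19], [5, 4, 3, 0, 2, 1, 3, 4, 5, 6, 5, 4, 3, 2, 1, 3, 4, 5, 2, 3, 0, 2, 1, 3], 1, [([], 2), ([], 3), ([], 4), ([], 5), ([], 6), ([], 7), ([5, 4, 6, 5], 6), ([3, 2, 4, 3, 5, 4, 6, 5], 5), ([], 8), ([3, 1, 4, 3, 5, 4, 6, 5], 5), ([0, 2, 3, 1, 4, 3, 2, 0], 4), ([3, 2, 0, 4, 3, 2, 5, 4, 3, 1, 6, 5, 4, 3, 2, 0], 5), ([0, 2, 3, 1, 4, 3, 2, 0, 5, 4, 6, 5], 4), ([], 9)]⟩⟩,
   ⟨[0, 1, 4], [66, 78, 93], 9903822619524922151324876800, .good ⟨[([], 0), ([], 1), ([], 4)], [93, 78, 66], [0, 1, 4], [(63, 63), (64, 67), (69, 80), (70, 79), (73, 94), (65, 68), (71, 81), (74, 100), (75, 99), (83, 96), (84, 95), (72, 82), (76, 101), (85, 97), (87, 103), (77, 102), (86, 98), (88, 106), (90, 104), (109, 109), (89, 107), (91, 105), (110, 112), (92, 108), (111, 113), (115, 119), (114, 114), (116, 120), (117, 122), (118, 121), (123, 123), (124, 125)], 85070591720330793237095357669762400256,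 [20, 29, 40, 58, 45, 32, 17], [5, 3, 4, 2, 3, 0, 2, 1, 3, 4, 5, 6, 5, 4, 3, 2, 1, 3, 4, 5, 4, 2, 3, 0, 2, 1, 3, 2], 2, [([], 3), ([], 4), ([], 5), ([], 6), ([], 7), ([5, 4, 6, 5], 6), ([3, 2, 4, 3], 5), ([5, 4, 3, 2, 6, 5, 4, 3], 6), ([3, 2, 4, 3, 5, 4, 6, 5], 5), ([], 8), ([3, 1, 4, 3], 5), ([5, 4, 3, 1, 6, 5, 4, 3], 6), ([3, 1, 4, 3, 5, 4, 6, 5], 5), ([0, 2, 3, 1, 4, 3, 2, 0], 4), ([3, 2, 0, 4, 3, 2, 5, 4, 3, 1, 6, 5, 4, 3, 2, 0], 5), ([0, 2, 3, 1, 4, 3, 2, 0, 5, 4, 6, 5], 4)]⟩⟩,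
   ⟨[2, 4], [66, 73], 9518519942034128633856, .good ⟨[([], 2), ([], 4)], [73, 66], [2, 4], [(63, 63), (64, 67), (69, 75), (70, 74), (78, 78), (93, 94), (65, 68), (71, 76), (79, 84), (80, 83), (95, 96), (72, 77), (81, 85), (87, 87), (97, 97), (99, 100), (82, 86), (88, 90), (98, 98), (101, 101), (103, 109), (89, 91), (102, 102), (104, 112), (106, 110), (92, 92), (105, 113), (107, 111), (115, 115), (108, 114), (116, 116), (119, 119), (117, 118), (120, 120), (121, 122), (123, 124), (125, 125)], 85070591730234606338100337786958643200, [22, 32, 42, 62, 48, 34, 18], [5, 4, 3, 0, 2, 1, 3, 4, 5, 6, 0, 2, 1, 3, 4, 5, 4, 2, 3, 0, 2, 1, 3, 0], 1, [([], 2), ([], 3), ([], 4), ([], 5), ([], 6), ([], 7), ([5, 4, 6, 5], 6), ([3, 2, 4, 3, 5, 4, 6, 5], 5), ([], 8), ([3, 1, 4, 3, 5, 4, 6, 5], 5), ([0, 2, 3, 1, 4, 3, 2, 0], 4), ([3, 2, 0, 4, 3, 2, 5, 4, 3, 1, 6, 5, 4, 3, 2, 0], 5), ([0,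 2, 3, 1, 4, 3, 2, 0, 5, 4, 6, 5], 4), ([], 9)]⟩⟩,
   ⟨[0, 2, 4], [66, 73, 93, 94], 29710570461369068631707615232, .bad [0, 2, 0, 4] 0⟩,
   ⟨[1, 2, 4], [66, 73, 78], 311749974845691422310400, .good ⟨[([], 1), ([], 2), ([], 4)], [78, 73, 66], [1, 2, 4], [(63, 63), (64, 67), (69, 84), (70, 83), (74, 80), (75, 79), (93, 94), (65, 68), (71, 85), (76, 81), (87, 87), (95, 100), (96, 99), (72, 86), (77, 82), (88, 90), (97, 101), (103, 109), (89, 91), (98, 102), (104, 112), (106, 110), (92, 92), (105, 113), (107, 111), (115, 119), (108, 114), (116, 120), (117, 122), (118, 121), (123, 124), (125, 125)], 85070591730234304106645434129664966656, [18, 25, 34, 50, 39, 28, 15], [5, 3, 4, 2, 3, 0, 2, 1, 3, 4, 5, 6, 4, 3, 0, 2, 1, 3, 4, 5, 4, 2, 3, 0, 2, 1, 3, 0], 2, [([], 3), ([], 4), ([], 5), ([], 6), ([], 7), ([5, 4, 6, 5], 6), ([3, 2, 4, 3], 5), ([5, 4, 3, 2, 6, 5, 4, 3], 6),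 ([3, 2, 4, 3, 5, 4, 6, 5], 5), ([], 8), ([3, 1, 4, 3], 5), ([5, 4, 3, 1, 6, 5, 4, 3], 6), ([3, 1, 4, 3, 5, 4, 6, 5], 5), ([0, 2, 3, 1, 4, 3, 2, 0], 4), ([3, 2, 0, 4, 3, 2, 5, 4, 3, 1, 6, 5, 4, 3, 2, 0], 5), ([0, 2, 3, 1, 4, 3, 2, 0, 5, 4, 6, 5], 4)]⟩⟩,
   ⟨[0, 1, 2, 4], [66, 73, 78, 93, 94], 29710872692823972289001291776, .bad [0, 1, 2, 0, 4] 0⟩,
   ⟨[3, 4], [66, 69, 70], 1844674407370955161600, .bad [3, 4, 3] 3⟩,
   ⟨[0, 3, 4], [66, 69, 70, 93], 9903522158957449570148155392, .bad [0, 3, 4, 3] 3⟩,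
   ⟨[1, 3, 4], [66, 69, 70, 78, 79, 80], 2117464858732972010897408, .bad [1, 3, 1, 4, 3, 1] 1⟩,
   ⟨[0, 1, 3, 4], [66, 69, 70, 78, 79, 80, 93], 9905637779141775171203891200, .bad [0, 1, 3, 1, 4, 3, 1] 1⟩,
   ⟨[2, 3, 4], [66, 69, 70, 73, 74, 75], 67957805167545988153344, .bad [2, 3, 2, 4, 3, 2] 2⟩,
   ⟨[0, 2, 3, 4], [66, 69, 70, 73, 74, 75, 93, 94, 95, 96], 148552872672050800533883060224, .bad [0, 2, 0, 3, 2, 0, 4, 3, 2, 0] 0⟩,
   ⟨[1, 2, 3, 4], [66, 69, 70, 73, 74, 75, 78, 79, 80, 83, 84, 87], 185940302570916781599227904, .good ⟨[([3, 1, 2, 3], 4), ([], 1), ([], 2), ([], 4)], [87, 78, 73, 66], [3, 1, 2, 3, 4, 3, 2, 1, 3, 1, 2, 4], [(63, 63), (64, 90), (67, 88), (71, 85), (76, 81), (93, 109), (94, 103), (95, 100), (96, 99), (65, 91), (68, 89), (72, 86), (77, 82), (97, 119), (101, 115), (104, 112), (106, 110), (92, 92), (98, 120), (102, 116), (105, 113), (107, 111),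 (108, 124), (114, 123), (117, 122), (118, 121), (125, 125)], 85070591730048675554049363039488049152, [10, 13, 18, 26, 21, 16, 9], [5, 3, 4, 2, 3, 0, 2, 1, 3, 4, 5, 6, 4, 3, 0, 2, 1, 3, 4, 5, 4, 2, 3, 0, 2, 1, 3, 0], 3, [([], 8), ([], 5), ([], 6), ([], 7), ([5, 4, 6, 5], 6), ([3, 1, 4, 3], 5), ([5, 4, 3, 1, 6, 5, 4, 3], 6), ([3, 1, 4, 3, 5, 4, 6, 5], 5)]⟩⟩,
   ⟨[0, 1, 2, 3, 4], [66, 69, 70, 73, 74, 75, 78, 79, 80, 83, 84, 87, 93, 94, 95, 96, 99, 100, 103, 109], 661228526764038449430300215738368, .bad [0, 1, 2, 0, 3, 1, 2, 0, 3, 2, 4, 3, 1, 2, 0, 3, 2, 4, 3, 1] 1⟩]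

/-- Cases of node 19. -/
def cases19_2 : List JCase :=
  [⟨[5], [64], 18446744073709551616, .good ⟨[([], 5)], [64], [5], [(63, 65), (66, 67), (69, 69), (73, 73), (78, 78), (93, 93), (68, 68), (70, 71), (74, 74), (79, 79), (94, 94), (72, 72), (75, 76), (80, 81), (83, 83), (95, 95), (77, 77), (82, 82), (84, 85), (96, 97), (99, 99), (86, 86), (87, 88), (98, 98), (100, 101), (89, 89), (90, 90), (102, 102), (103, 104), (91, 92), (105, 105), (106, 106), (109, 110), (107, 108), (111, 111), (112, 112), (113, 114), (115, 115), (116, 117), (119, 119), (118, 118), (120, 121), (122, 122), (123, 123), (124, 124), (125, 125)], 85070591730234615838173535747377725440, [30, 43, 58, 84, 65, 44, 23], [0, 2, 3, 4, 5, 6, 1, 3, 4, 2, 3, 0, 2, 1, 3, 4], 0, [([], 1), ([], 2), ([], 3), ([], 4), ([], 5), ([], 6), ([], 7), ([], 8), ([0, 2, 3, 1, 4, 3, 2, 0], 4), ([3, 2, 0, 4, 3, 2, 5, 4,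 3, 1, 6, 5, 4, 3, 2, 0], 5), ([], 9)]⟩⟩,
   ⟨[0, 5], [64, 93], 9903520332729786272902545408, .good ⟨[([], 0), ([], 5)], [93, 64], [0, 5], [(63, 65), (66, 67), (69, 69), (73, 94), (78, 78), (68, 68), (70, 71), (74, 95), (79, 79), (72, 72), (75, 97), (76, 96), (80, 81), (83, 99), (77, 98), (82, 82), (84, 101), (85, 100), (86, 102), (87, 104), (88, 103), (89, 105), (90, 106), (109, 110), (91, 108), (92, 107), (111, 111), (112, 112), (113, 114), (115, 115), (116, 117), (119, 119), (118, 118), (120, 121), (122, 122), (123, 123), (124, 125)], 85070591720331095523890493548184731648, [26, 39, 52, 76, 59, 40, 21], [5, 4, 3, 0, 2, 1, 3, 4, 5, 6, 5, 1, 3, 4, 2, 3, 0, 2, 1, 3, 4, 1, 3, 2], 1, [([], 2), ([], 3), ([], 4), ([], 5), ([], 6), ([], 7), ([5, 4, 6, 5], 6), ([3, 2, 4, 3, 5, 4, 6, 5], 5), ([], 8), ([3, 1, 4, 3, 5, 4, 6, 5], 5), ([0, 2, 3, 1, 4, 3, 2, 0], 4), ([3, 2, 0,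 4, 3, 2, 5, 4, 3, 1, 6, 5, 4, 3, 2, 0], 5), ([0, 2, 3, 1, 4, 3, 2, 0, 5, 4, 6, 5], 4), ([], 9)]⟩⟩,
   ⟨[1, 5], [64, 78], 302249901647731003228160, .good ⟨[([], 1), ([], 5)], [78, 64], [1, 5], [(63, 65), (66, 67), (69, 79), (73, 73), (93, 93), (68, 68), (70, 81), (71, 80), (74, 83), (94, 94), (72, 82), (75, 85), (76, 84), (95, 99), (77, 86), (87, 88), (96, 101), (97, 100), (89, 89), (90, 90), (98, 102), (103, 104), (91, 92), (105, 105), (106, 106), (109, 110), (107, 108), (111, 111), (112, 112), (113, 114), (115, 119), (116, 121), (117, 120), (118, 122), (123, 123), (124, 124), (125, 125)], 85070591730234313606718632090084048896, [26, 36, 50, 72, 56, 38, 20], [5, 4, 3, 0, 2, 1, 3, 4, 5, 6, 5, 1, 3, 4, 2, 3, 0, 2, 1, 3, 4, 0, 2, 3], 1, [([], 2), ([], 3), ([], 4), ([], 5), ([], 6), ([], 7), ([5, 4, 6, 5], 6), ([3, 2, 4, 3, 5, 4, 6, 5], 5), ([], 8), ([3, 1, 4, 3, 5,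 4, 6, 5], 5), ([0, 2, 3, 1, 4, 3, 2, 0], 4), ([3, 2, 0, 4, 3, 2, 5, 4, 3, 1, 6, 5, 4, 3, 2, 0], 5), ([0, 2, 3, 1, 4, 3, 2, 0, 5, 4, 6, 5], 4), ([], 9)]⟩⟩,
   ⟨[0, 1, 5], [64, 78, 93], 9903822564184689930196221952, .good ⟨[([], 0), ([], 1), ([], 5)], [93, 78, 64], [0, 1, 5], [(63, 65), (66, 67), (69, 79), (73, 94), (68, 68), (70, 81), (71, 80), (74, 99), (83, 95), (72, 82), (75, 101), (76, 100), (84, 97), (85, 96), (77, 102), (86, 98), (87, 104), (88, 103), (89, 105), (90, 106), (109, 110), (91, 108), (92, 107), (111, 111), (112, 112), (113, 114), (115, 119), (116, 121), (117, 120), (118, 122), (123, 123), (124, 125)], 85070591720330793292435589890891055104, [22, 32, 44, 64, 50, 34, 18], [5, 3, 4, 2, 3, 0, 2, 1, 3, 4, 5, 6, 4, 5, 1, 3, 4, 2, 3, 0, 2, 1, 3, 4, 0, 2, 3, 2], 2, [([], 3), ([], 4), ([], 5), ([], 6), ([], 7), ([5, 4, 6, 5], 6), ([3, 2, 4, 3], 5), ([5, 4,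 3, 2, 6, 5, 4, 3], 6), ([3, 2, 4, 3, 5, 4, 6, 5], 5), ([], 8), ([3, 1, 4, 3], 5), ([5, 4, 3, 1, 6, 5, 4, 3], 6), ([3, 1, 4, 3, 5, 4, 6, 5], 5), ([0, 2, 3, 1, 4, 3, 2, 0], 4), ([3, 2, 0, 4, 3, 2, 5, 4, 3, 1, 6, 5, 4, 3, 2, 0], 5), ([0, 2, 3, 1, 4, 3, 2, 0, 5, 4, 6, 5], 4)]⟩⟩,
   ⟨[2, 5], [64, 73], 9463179709812999979008, .good ⟨[([], 2), ([], 5)], [73, 64], [2, 5], [(63, 65), (66, 67), (69, 74), (78, 78), (93, 94), (68, 68), (70, 76), (71, 75), (79, 83), (95, 95), (72, 77), (80, 85), (81, 84), (96, 97), (99, 99), (82, 86), (87, 88), (98, 98), (100, 101), (89, 89), (90, 90), (102, 102), (103, 110), (104, 109), (91, 92), (105, 111), (106, 112), (107, 114), (108, 113), (115, 115), (116, 117), (119, 119), (118, 118), (120, 121), (122, 122), (123, 124), (125, 125)], 85070591730234606393440570008087298048, [24, 35, 46, 68, 53, 36, 19], [5, 4, 3, 0, 2, 1, 3, 4, 5, 6, 5,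 1, 3, 4, 2, 3, 0, 2, 1, 3, 4, 1, 3, 0], 1, [([], 2), ([], 3), ([], 4), ([], 5), ([], 6), ([], 7), ([5, 4, 6, 5], 6), ([3, 2, 4, 3, 5, 4, 6, 5], 5), ([], 8), ([3, 1, 4, 3, 5, 4, 6, 5], 5), ([0, 2, 3, 1, 4, 3, 2, 0], 4), ([3, 2, 0, 4, 3, 2, 5, 4, 3, 1, 6, 5, 4, 3, 2, 0], 5), ([0, 2, 3, 1, 4, 3, 2, 0, 5, 4, 6, 5], 4), ([], 9)]⟩⟩,
   ⟨[0, 2, 5], [64, 73, 93, 94], 29710570406028836410578960384, .bad [0, 2, 0, 5] 0⟩,
   ⟨[1, 2, 5], [64, 73, 78], 311694634613470293655552, .good ⟨[([], 1), ([], 2), ([], 5)], [78, 73, 64], [1, 2, 5], [(63, 65), (66, 67), (69, 83), (74, 79), (93, 94), (68, 68), (70, 85), (71, 84), (75, 81), (76, 80), (95, 99), (72, 86), (77, 82), (87, 88), (96, 101), (97, 100), (89, 89), (90, 90), (98, 102), (103, 110), (104, 109), (91, 92), (105, 111), (106, 112), (107, 114), (108, 113), (115, 119), (116, 121), (117, 120), (118, 122), (123, 124), (125, 125)],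 85070591730234304161985666350793621504, [20, 28, 38, 56, 44, 30, 16], [5, 3, 4, 2, 3, 0, 2, 1, 3, 4, 5, 6, 4, 5, 1, 3, 4, 2, 3, 0, 2, 1, 3, 4, 2, 1, 3, 0], 2, [([], 3), ([], 4), ([], 5), ([], 6), ([], 7), ([5, 4, 6, 5], 6), ([3, 2, 4, 3], 5), ([5, 4, 3, 2, 6, 5, 4, 3], 6), ([3, 2, 4, 3, 5, 4, 6, 5], 5), ([], 8), ([3, 1, 4, 3], 5), ([5, 4, 3, 1, 6, 5, 4, 3], 6), ([3, 1, 4, 3, 5, 4, 6, 5], 5), ([0, 2, 3, 1, 4, 3, 2, 0], 4), ([3, 2, 0, 4, 3, 2, 5, 4, 3, 1, 6, 5, 4, 3, 2, 0], 5), ([0, 2, 3, 1, 4, 3, 2, 0, 5, 4, 6, 5], 4)]⟩⟩,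
   ⟨[0, 1, 2, 5], [64, 73, 78, 93, 94], 29710872637483740067872636928, .bad [0, 1, 2, 0, 5] 0⟩,
   ⟨[3, 5], [64, 69], 608742554432415203328, .good ⟨[([], 3), ([], 5)], [69, 64], [3, 5], [(63, 65), (66, 71), (67, 70), (73, 74), (78, 79), (93, 93), (68, 72), (75, 76), (80, 81), (83, 83), (94, 95), (77, 77), (82, 82), (84, 88), (85, 87), (96, 97), (99, 99), (86, 89), (90, 90), (98, 98), (100, 104), (101, 103), (91, 92), (102, 105), (106, 106), (109, 110), (107, 108), (111, 111), (112, 115), (113, 117), (114, 116), (119, 119), (118, 118), (120, 121), (122, 123), (124, 124), (125, 125)], 85070591730234615247877725388672073728, [22, 31, 42, 60, 47, 32, 17], [5, 4, 3, 0, 2, 1, 3, 4, 5, 6, 5, 1, 3, 4, 2, 3, 0, 2, 1, 3, 4, 0, 2, 1], 1, [([], 2), ([], 3), ([], 4), ([], 5), ([], 6), ([], 7), ([5, 4, 6, 5], 6), ([3, 2, 4, 3, 5, 4, 6, 5], 5), ([], 8), ([3, 1, 4, 3, 5, 4, 6, 5],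 5), ([0, 2, 3, 1, 4, 3, 2, 0], 4), ([3, 2, 0, 4, 3, 2, 5, 4, 3, 1, 6, 5, 4, 3, 2, 0], 5), ([0, 2, 3, 1, 4, 3, 2, 0, 5, 4, 6, 5], 4), ([], 9)]⟩⟩,
   ⟨[0, 3, 5], [64, 69, 93], 9903520923025596631608197120, .good ⟨[([], 0), ([], 3), ([], 5)], [93, 69, 64], [0, 3, 5], [(63, 65), (66, 71), (67, 70), (73, 95), (74, 94), (78, 79), (68, 72), (75, 97), (76, 96), (80, 81), (83, 99), (77, 98), (82, 82), (84, 104), (85, 103), (87, 101), (88, 100), (86, 105), (89, 102), (90, 106), (109, 110), (91, 108), (92, 107), (111, 111), (112, 115), (113, 117), (114, 116), (119, 119), (118, 118), (120, 121), (122, 123), (124, 125)], 85070591720331094933594683189479079936, [18, 27, 36, 52, 41, 28, 15], [5, 3, 4, 2, 3, 0, 2, 1, 3, 4, 5, 6, 4, 5, 1, 3, 4, 2, 3, 0, 2, 1, 3, 4, 3, 0, 2, 1], 2, [([], 3), ([], 4), ([], 5), ([], 6), ([], 7), ([5, 4, 6, 5], 6), ([3, 2, 4, 3], 5), ([5, 4, 3, 2, 6,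 5, 4, 3], 6), ([3, 2, 4, 3, 5, 4, 6, 5], 5), ([], 8), ([3, 1, 4, 3], 5), ([5, 4, 3, 1, 6, 5, 4, 3], 6), ([3, 1, 4, 3, 5, 4, 6, 5], 5), ([0, 2, 3, 1, 4, 3, 2, 0], 4), ([3, 2, 0, 4, 3, 2, 5, 4, 3, 1, 6, 5, 4, 3, 2, 0], 5), ([0, 2, 3, 1, 4, 3, 2, 0, 5, 4, 6, 5], 4)]⟩⟩,
   ⟨[1, 3, 5], [64, 69, 78, 79], 907303107265404296232960, .bad [1, 3, 1, 5] 1⟩,
   ⟨[0, 1, 3, 5], [64, 69, 78, 79, 93], 9904427617390307603489226752, .bad [0, 1, 3, 1, 5] 1⟩,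
   ⟨[2, 3, 5], [64, 69, 73, 74], 28942941451650286485504, .bad [2, 3, 2, 5] 2⟩,
   ⟨[0, 2, 3, 5], [64, 69, 73, 74, 93, 94, 95], 69324671142922747044637442048, .bad [0, 2, 0, 3, 2, 0, 5] 0⟩,
   ⟨[1, 2, 3, 5], [64, 69, 73, 74, 78, 79, 83], 10607043863079655565164544, .bad [1, 2, 3, 1, 2, 3, 5] 1⟩,
   ⟨[0, 1, 2, 3, 5], [64, 69, 73, 74, 78, 79, 83, 93, 94, 95, 99], 703160549357959075798267723776, .bad [0, 1, 2, 0, 3, 1, 2, 0, 3, 2, 5] 0⟩]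

/-- Cases of node 19. -/
def cases19_3 : List JCase :=
  [⟨[4, 5], [64, 66, 67], 239807672958224171008, .bad [4, 5, 4] 4⟩,
   ⟨[0, 4, 5], [64, 66, 67, 93], 9903520554090715157417164800, .bad [0, 4, 5, 4] 4⟩,
   ⟨[1, 4, 5], [64, 66, 67, 78], 302471262576615517847552, .bad [1, 4, 5, 4] 4⟩,
   ⟨[0, 1, 4, 5], [64, 66, 67, 78, 93], 9903822785545618814710841344, .bad [0, 1, 4, 5, 4] 4⟩,
   ⟨[2, 4, 5], [64, 66, 67, 73], 9684540638697514598400, .bad [2, 4, 5, 4] 4⟩,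
   ⟨[0, 2, 4, 5], [64, 66, 67, 73, 93, 94], 29710570627389765295093579776, .bad [0, 2, 0, 4, 5, 4] 0⟩,
   ⟨[1, 2, 4, 5], [64, 66, 67, 73, 78], 311915995542354808274944, .bad [1, 2, 4, 5, 4] 4⟩,
   ⟨[0, 1, 2, 4, 5], [64, 66, 67, 73, 78, 93, 94], 29710872858844668952387256320, .bad [0, 1, 2, 0, 4, 5, 4] 0⟩,
   ⟨[3, 4, 5], [64, 66, 67, 69, 70, 71], 4371878345469163732992, .bad [3, 4, 3, 5, 4, 3] 3⟩,
   ⟨[0, 3, 4, 5], [64, 66, 67, 69, 70, 71, 93], 9903524686161387668356726784, .bad [0, 3, 4, 3, 5, 4, 3] 3⟩,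
   ⟨[1, 3, 4, 5], [64, 66, 67, 69, 70, 71, 78, 79, 80, 81], 4537843701900328568881152, .bad [1, 3, 1, 4, 3, 1, 5, 4, 3, 1] 1⟩,
   ⟨[0, 1, 3, 4, 5], [64, 66, 67, 69, 70, 71, 78, 79, 80, 81, 93], 9908058157984942527761874944, .bad [0, 1, 3, 1, 4, 3, 1, 5, 4, 3, 1] 1⟩,
   ⟨[2, 3, 4, 5], [64, 66, 67, 69, 70, 71, 73, 74, 75, 76], 146042872831558520143872, .bad [2, 3, 2, 4, 3, 2, 5, 4, 3, 2] 2⟩,
   ⟨[0, 2, 3, 4, 5], [64, 66, 67, 69, 70, 71, 73, 74, 75, 76, 93, 94, 95, 96, 97], 307009275785647139733502951424, .bad [0, 2, 0, 3, 2, 0, 4, 3, 2, 0, 5, 4, 3, 2, 0] 0⟩,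
   ⟨[1, 2, 3, 4, 5], [64, 66, 67, 69, 70, 71, 73, 74, 75, 76, 78, 79, 80, 81, 83, 84, 85, 87, 88, 90], 1774546914612203529695133696, .bad [1, 2, 3, 1, 2, 3, 4, 3, 1, 2, 3, 4, 5, 4, 3, 1, 2, 3, 4, 5] 1⟩,
   ⟨[0, 1, 2, 3, 4, 5], [64, 66, 67, 69, 70, 71, 73, 74, 75, 76, 78, 79, 80, 81, 83, 84, 85, 87, 88, 90, 93, 94, 95, 96, 97, 99, 100, 101, 103, 104, 106, 109, 110, 112, 115, 119], 713408079754819485846125586247843840, .bad [0, 1, 2, 0, 3, 1, 2, 0, 3, 2, 4, 3, 1, 2, 0, 3, 2, 4, 3, 1, 5, 4, 3, 1, 2, 0, 3, 2, 4, 3, 1, 5, 4, 3, 2, 0] 0⟩]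

/-- Cases of node 19. -/
def cases19_4 : List JCase :=
  [⟨[6], [63], 9223372036854775808, .good ⟨[([], 6)], [63], [6], [(64, 65), (66, 66), (69, 69), (73, 73), (78, 78), (93, 93), (67, 68), (70, 70), (74, 74), (79, 79), (94, 94), (71, 72), (75, 75), (80, 80), (83, 83), (95, 95), (76, 77), (81, 82), (84, 84), (96, 96), (99, 99), (85, 86), (87, 87), (97, 98), (100, 100), (88, 89), (101, 102), (103, 103), (90, 91), (104, 105), (109, 109), (92, 92), (106, 107), (110, 111), (108, 108), (112, 113), (114, 114), (115, 116), (117, 117), (119, 120), (118, 118), (121, 121), (122, 122), (123, 123), (124, 124), (125, 125)], 85070591730234615847396907784232501248, [32, 46, 62, 90, 70, 48, 24], [0, 2, 3, 4, 5, 1, 3, 4, 2, 3, 0, 2, 1, 3, 4, 5], 0, [([], 1), ([], 2), ([], 3), ([], 4), ([], 5), ([], 6), ([], 7), ([], 8), ([0, 2, 3, 1, 4, 3, 2, 0], 4), ([3, 2, 0, 4, 3, 2, 5, 4, 3,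 1, 6, 5, 4, 3, 2, 0], 5), ([], 9)]⟩⟩,
   ⟨[0, 6], [63, 93], 9903520323506414236047769600, .good ⟨[([], 0), ([], 6)], [93, 63], [0, 6], [(64, 65), (66, 66), (69, 69), (73, 94), (78, 78), (67, 68), (70, 70), (74, 95), (79, 79), (71, 72), (75, 96), (80, 80), (83, 99), (76, 98), (77, 97), (81, 82), (84, 100), (85, 102), (86, 101), (87, 103), (88, 105), (89, 104), (109, 109), (90, 107), (91, 106), (110, 111), (92, 108), (112, 113), (114, 114), (115, 116), (117, 117), (119, 120), (118, 118), (121, 121), (122, 122), (123, 123), (124, 125)], 85070591720331095533113865585039507456, [28, 42, 56, 82, 64, 44, 22], [5, 6, 0, 2, 3, 4, 5, 1, 3, 4, 2, 3, 0, 2, 1, 3, 4, 5, 2, 3, 4, 1, 3, 2], 1, [([], 2), ([], 3), ([], 4), ([], 5), ([], 6), ([], 7), ([5, 4, 6, 5], 6), ([3, 2, 4, 3, 5, 4, 6, 5], 5), ([], 8), ([3, 1, 4, 3, 5, 4, 6, 5], 5), ([0, 2, 3, 1, 4, 3, 2, 0], 4), ([3, 2, 0, 4,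 3, 2, 5, 4, 3, 1, 6, 5, 4, 3, 2, 0], 5), ([0, 2, 3, 1, 4, 3, 2, 0, 5, 4, 6, 5], 4), ([], 9)]⟩⟩,
   ⟨[1, 6], [63, 78], 302240678275694148452352, .good ⟨[([], 1), ([], 6)], [78, 63], [1, 6], [(64, 65), (66, 66), (69, 79), (73, 73), (93, 93), (67, 68), (70, 80), (74, 83), (94, 94), (71, 82), (72, 81), (75, 84), (95, 99), (76, 86), (77, 85), (87, 87), (96, 100), (88, 89), (97, 102), (98, 101), (103, 103), (90, 91), (104, 105), (109, 109), (92, 92), (106, 107), (110, 111), (108, 108), (112, 113), (114, 114), (115, 120), (116, 119), (117, 121), (118, 122), (123, 123), (124, 124), (125, 125)], 85070591730234313615942004126938824704, [28, 39, 54, 78, 61, 42, 21], [5, 6, 0, 2, 3, 4, 5, 1, 3, 4, 2, 3, 0, 2, 1, 3, 4, 5, 2, 3, 4, 0, 2, 3], 1, [([], 2), ([], 3), ([], 4), ([], 5), ([], 6), ([], 7), ([5, 4, 6, 5], 6), ([3, 2, 4, 3, 5, 4, 6, 5], 5), ([], 8), ([3, 1, 4, 3, 5, 4,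 6, 5], 5), ([0, 2, 3, 1, 4, 3, 2, 0], 4), ([3, 2, 0, 4, 3, 2, 5, 4, 3, 1, 6, 5, 4, 3, 2, 0], 5), ([0, 2, 3, 1, 4, 3, 2, 0, 5, 4, 6, 5], 4), ([], 9)]⟩⟩,
   ⟨[0, 1, 6], [63, 78, 93], 9903822554961317893341446144, .good ⟨[([], 0), ([], 1), ([], 6)], [93, 78, 63], [0, 1, 6], [(64, 65), (66, 66), (69, 79), (73, 94), (67, 68), (70, 80), (74, 99), (83, 95), (71, 82), (72, 81), (75, 100), (84, 96), (76, 102), (77, 101), (85, 98), (86, 97), (87, 103), (88, 105), (89, 104), (109, 109), (90, 107), (91, 106), (110, 111), (92, 108), (112, 113), (114, 114), (115, 120), (116, 119), (117, 121), (118, 122), (123, 123), (124, 125)], 85070591720330793301658961927745830912, [24, 35, 48, 70, 55, 38, 19], [3, 4, 5, 6, 0, 2, 3, 4, 5, 1, 3, 4, 2, 3, 0, 2, 1, 3, 4, 5, 2, 1, 3, 4, 0, 2, 3, 2], 2, [([], 3), ([], 4), ([], 5), ([], 6), ([], 7), ([5, 4, 6, 5], 6), ([3, 2, 4, 3], 5), ([5, 4, 3,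 2, 6, 5, 4, 3], 6), ([3, 2, 4, 3, 5, 4, 6, 5], 5), ([], 8), ([3, 1, 4, 3], 5), ([5, 4, 3, 1, 6, 5, 4, 3], 6), ([3, 1, 4, 3, 5, 4, 6, 5], 5), ([0, 2, 3, 1, 4, 3, 2, 0], 4), ([3, 2, 0, 4, 3, 2, 5, 4, 3, 1, 6, 5, 4, 3, 2, 0], 5), ([0, 2, 3, 1, 4, 3, 2, 0, 5, 4, 6, 5], 4)]⟩⟩,
   ⟨[2, 6], [63, 73], 9453956337776145203200, .good ⟨[([], 2), ([], 6)], [73, 63], [2, 6], [(64, 65), (66, 66), (69, 74), (78, 78), (93, 94), (67, 68), (70, 75), (79, 83), (95, 95), (71, 77), (72, 76), (80, 84), (96, 96), (99, 99), (81, 86), (82, 85), (87, 87), (97, 98), (100, 100), (88, 89), (101, 102), (103, 109), (90, 91), (104, 111), (105, 110), (92, 92), (106, 113), (107, 112), (108, 114), (115, 116), (117, 117), (119, 120), (118, 118), (121, 121), (122, 122), (123, 124), (125, 125)], 85070591730234606402663942044942073856, [26, 38, 50, 74, 58, 40, 20], [5, 6, 0, 2, 3, 4, 5, 1, 3, 4, 2, 3,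 0, 2, 1, 3, 4, 5, 2, 3, 4, 1, 3, 0], 1, [([], 2), ([], 3), ([], 4), ([], 5), ([], 6), ([], 7), ([5, 4, 6, 5], 6), ([3, 2, 4, 3, 5, 4, 6, 5], 5), ([], 8), ([3, 1, 4, 3, 5, 4, 6, 5], 5), ([0, 2, 3, 1, 4, 3, 2, 0], 4), ([3, 2, 0, 4, 3, 2, 5, 4, 3, 1, 6, 5, 4, 3, 2, 0], 5), ([0, 2, 3, 1, 4, 3, 2, 0, 5, 4, 6, 5], 4), ([], 9)]⟩⟩,
   ⟨[0, 2, 6], [63, 73, 93, 94], 29710570396805464373724184576, .bad [0, 2, 0, 6] 0⟩,
   ⟨[1, 2, 6], [63, 73, 78], 311685411241433438879744, .good ⟨[([], 1), ([], 2), ([], 6)], [78, 73, 63], [1, 2, 6], [(64, 65), (66, 66), (69, 83), (74, 79), (93, 94), (67, 68), (70, 84), (75, 80), (95, 99), (71, 86), (72, 85), (76, 82), (77, 81), (87, 87), (96, 100), (88, 89), (97, 102), (98, 101), (103, 109), (90, 91), (104, 111), (105, 110), (92, 92), (106, 113), (107, 112), (108, 114), (115, 120), (116, 119), (117, 121), (118, 122), (123, 124), (125, 125)],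 85070591730234304171209038387648397312, [22, 31, 42, 62, 49, 34, 17], [3, 4, 5, 6, 0, 2, 3, 4, 5, 1, 3, 4, 2, 3, 0, 2, 1, 3, 4, 5, 2, 1, 3, 4, 2, 1, 3, 0], 2, [([], 3), ([], 4), ([], 5), ([], 6), ([], 7), ([5, 4, 6, 5], 6), ([3, 2, 4, 3], 5), ([5, 4, 3, 2, 6, 5, 4, 3], 6), ([3, 2, 4, 3, 5, 4, 6, 5], 5), ([], 8), ([3, 1, 4, 3], 5), ([5, 4, 3, 1, 6, 5, 4, 3], 6), ([3, 1, 4, 3, 5, 4, 6, 5], 5), ([0, 2, 3, 1, 4, 3, 2, 0], 4), ([3, 2, 0, 4, 3, 2, 5, 4, 3, 1, 6, 5, 4, 3, 2, 0], 5), ([0, 2, 3, 1, 4, 3, 2, 0, 5, 4, 6, 5], 4)]⟩⟩,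
   ⟨[0, 1, 2, 6], [63, 73, 78, 93, 94], 29710872628260368031017861120, .bad [0, 1, 2, 0, 6] 0⟩,
   ⟨[3, 6], [63, 69], 599519182395560427520, .good ⟨[([], 3), ([], 6)], [69, 63], [3, 6], [(64, 65), (66, 70), (73, 74), (78, 79), (93, 93), (67, 72), (68, 71), (75, 75), (80, 80), (83, 83), (94, 95), (76, 77), (81, 82), (84, 87), (96, 96), (99, 99), (85, 89), (86, 88), (97, 98), (100, 103), (90, 91), (101, 105), (102, 104), (109, 109), (92, 92), (106, 107), (110, 111), (108, 108), (112, 116), (113, 115), (114, 117), (119, 120), (118, 118), (121, 121), (122, 123), (124, 124), (125, 125)], 85070591730234615257101097425526849536, [24, 34, 46, 66, 52, 36, 18], [5, 6, 0, 2, 3, 4, 5, 1, 3, 4, 2, 3, 0, 2, 1, 3, 4, 5, 2, 3, 4, 0, 2, 1], 1, [([], 2), ([], 3), ([], 4), ([], 5), ([], 6), ([], 7), ([5, 4, 6, 5], 6), ([3, 2, 4, 3, 5, 4, 6, 5], 5), ([], 8), ([3, 1, 4, 3, 5, 4, 6, 5],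 5), ([0, 2, 3, 1, 4, 3, 2, 0], 4), ([3, 2, 0, 4, 3, 2, 5, 4, 3, 1, 6, 5, 4, 3, 2, 0], 5), ([0, 2, 3, 1, 4, 3, 2, 0, 5, 4, 6, 5], 4), ([], 9)]⟩⟩,
   ⟨[0, 3, 6], [63, 69, 93], 9903520913802224594753421312, .good ⟨[([], 0), ([], 3), ([], 6)], [93, 69, 63], [0, 3, 6], [(64, 65), (66, 70), (73, 95), (74, 94), (78, 79), (67, 72), (68, 71), (75, 96), (80, 80), (83, 99), (76, 98), (77, 97), (81, 82), (84, 103), (87, 100), (85, 105), (86, 104), (88, 102), (89, 101), (109, 109), (90, 107), (91, 106), (110, 111), (92, 108), (112, 116), (113, 115), (114, 117), (119, 120), (118, 118), (121, 121), (122, 123), (124, 125)], 85070591720331094942818055226333855744, [20, 30, 40, 58, 46, 32, 16], [3, 4, 5, 6, 0, 2, 3, 4, 5, 1, 3, 4, 2, 3, 0, 2, 1, 3, 4, 5, 2, 1, 3, 4, 3, 0, 2, 1], 2, [([], 3), ([], 4), ([], 5), ([], 6), ([], 7), ([5, 4, 6, 5], 6), ([3, 2, 4, 3], 5), ([5, 4, 3, 2, 6,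 5, 4, 3], 6), ([3, 2, 4, 3, 5, 4, 6, 5], 5), ([], 8), ([3, 1, 4, 3], 5), ([5, 4, 3, 1, 6, 5, 4, 3], 6), ([3, 1, 4, 3, 5, 4, 6, 5], 5), ([0, 2, 3, 1, 4, 3, 2, 0], 4), ([3, 2, 0, 4, 3, 2, 5, 4, 3, 1, 6, 5, 4, 3, 2, 0], 5), ([0, 2, 3, 1, 4, 3, 2, 0, 5, 4, 6, 5], 4)]⟩⟩,
   ⟨[1, 3, 6], [63, 69, 78, 79], 907293883893367441457152, .bad [1, 3, 1, 6] 1⟩,
   ⟨[0, 1, 3, 6], [63, 69, 78, 79, 93], 9904427608166935566634450944, .bad [0, 1, 3, 1, 6] 1⟩,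
   ⟨[2, 3, 6], [63, 69, 73, 74], 28933718079613431709696, .bad [2, 3, 2, 6] 2⟩,
   ⟨[0, 2, 3, 6], [63, 69, 73, 74, 93, 94, 95], 69324671133699375007782666240, .bad [0, 2, 0, 3, 2, 0, 6] 0⟩,
   ⟨[1, 2, 3, 6], [63, 69, 73, 74, 78, 79, 83], 10607034639707618710388736, .bad [1, 2, 3, 1, 2, 3, 6] 1⟩,
   ⟨[0, 1, 2, 3, 6], [63, 69, 73, 74, 78, 79, 83, 93, 94, 95, 99], 703160549348735703761412947968, .bad [0, 1, 2, 0, 3, 1, 2, 0, 3, 2, 6] 0⟩]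

/-- Cases of node 19. -/
def cases19_5 : List JCase :=
  [⟨[4, 6], [63, 66], 83010348331692982272, .good ⟨[([], 4), ([], 6)], [66, 63], [4, 6], [(64, 68), (65, 67), (69, 70), (73, 73), (78, 78), (93, 93), (71, 72), (74, 75), (79, 80), (94, 94), (76, 77), (81, 82), (83, 84), (95, 96), (85, 86), (87, 87), (97, 98), (99, 100), (88, 91), (89, 90), (101, 102), (103, 103), (92, 92), (104, 107), (105, 106), (109, 109), (108, 108), (110, 113), (111, 112), (114, 114), (115, 116), (117, 118), (119, 120), (121, 122), (123, 123), (124, 124), (125, 125)], 85070591730234615773609931489394294784, [26, 37, 50, 72, 55, 38, 19], [5, 6, 0, 2, 3, 4, 5, 1, 3, 4, 2, 3, 0, 2, 1, 3, 4, 5, 2, 3, 0, 2, 1, 3], 1, [([], 2), ([], 3), ([], 4), ([], 5), ([], 6), ([], 7), ([5, 4, 6, 5], 6), ([3, 2, 4, 3, 5, 4, 6, 5], 5), ([], 8), ([3, 1, 4, 3, 5, 4, 6, 5], 5), ([0, 2, 3, 1, 4, 3, 2, 0], 4), ([3,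 2, 0, 4, 3, 2, 5, 4, 3, 1, 6, 5, 4, 3, 2, 0], 5), ([0, 2, 3, 1, 4, 3, 2, 0, 5, 4, 6, 5], 4), ([], 9)]⟩⟩,
   ⟨[0, 4, 6], [63, 66, 93], 9903520397293390530885976064, .good ⟨[([], 0), ([], 4), ([], 6)], [93, 66, 63], [0, 4, 6], [(64, 68), (65, 67), (69, 70), (73, 94), (78, 78), (71, 72), (74, 96), (75, 95), (79, 80), (76, 98), (77, 97), (81, 82), (83, 100), (84, 99), (85, 102), (86, 101), (87, 103), (88, 107), (89, 106), (90, 105), (91, 104), (109, 109), (92, 108), (110, 113), (111, 112), (114, 114), (115, 116), (117, 118), (119, 120), (121, 122), (123, 123), (124, 125)], 85070591720331095459326889290201300992, [22, 33, 44, 64, 49, 34, 17], [3, 4, 5, 6, 0, 2, 3, 4, 5, 1, 3, 4, 2, 3, 0, 2, 1, 3, 4, 5, 4, 2, 3, 0, 2, 1, 3, 2], 2, [([], 3), ([], 4), ([], 5), ([], 6), ([], 7), ([5, 4, 6, 5], 6), ([3, 2, 4, 3], 5), ([5, 4, 3, 2, 6, 5, 4, 3], 6), ([3, 2, 4, 3, 5, 4, 6, 5],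 5), ([], 8), ([3, 1, 4, 3], 5), ([5, 4, 3, 1, 6, 5, 4, 3], 6), ([3, 1, 4, 3, 5, 4, 6, 5], 5), ([0, 2, 3, 1, 4, 3, 2, 0], 4), ([3, 2, 0, 4, 3, 2, 5, 4, 3, 1, 6, 5, 4, 3, 2, 0], 5), ([0, 2, 3, 1, 4, 3, 2, 0, 5, 4, 6, 5], 4)]⟩⟩,
   ⟨[1, 4, 6], [63, 66, 78], 302314465251988986658816, .good ⟨[([], 1), ([], 4), ([], 6)], [78, 66, 63], [1, 4, 6], [(64, 68), (65, 67), (69, 80), (70, 79), (73, 73), (93, 93), (71, 82), (72, 81), (74, 84), (75, 83), (94, 94), (76, 86), (77, 85), (87, 87), (95, 100), (96, 99), (88, 91), (89, 90), (97, 102), (98, 101), (103, 103), (92, 92), (104, 107), (105, 106), (109, 109), (108, 108), (110, 113), (111, 112), (114, 114), (115, 120), (116, 119), (117, 122), (118, 121), (123, 123), (124, 124), (125, 125)], 85070591730234313542155027832100618240, [22, 30, 42, 60, 46, 32, 16], [5, 6, 0, 2, 3, 4, 5, 1, 3, 4, 2, 3, 0, 2, 1, 3, 4, 5, 2, 3, 0, 2, 1,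 3], 4, [([], 9), ([0, 2, 3, 1, 4, 3, 2, 0, 5, 4, 6, 5], 4), ([3, 2, 4, 3, 5, 4, 6, 5], 5), ([5, 4, 6, 5], 6), ([], 7), ([3, 1, 4, 3, 5, 4, 6, 5], 5), ([3, 2, 0, 4, 3, 2, 5, 4, 3, 1, 6, 5, 4, 3, 2, 0], 5)]⟩⟩,
   ⟨[0, 1, 4, 6], [63, 66, 78, 93], 9903822628748294188179652608, .good ⟨[([], 0), ([], 1), ([], 4), ([], 6)], [93, 78, 66, 63], [0, 1, 4, 6], [(64, 68), (65, 67), (69, 80), (70, 79), (73, 94), (71, 82), (72, 81), (74, 100), (75, 99), (83, 96), (84, 95), (76, 102), (77, 101), (85, 98), (86, 97), (87, 103), (88, 107), (89, 106), (90, 105), (91, 104), (109, 109), (92, 108), (110, 113), (111, 112), (114, 114), (115, 120), (116, 119), (117, 122), (118, 121), (123, 123), (124, 125)], 85070591720330793227871985632907624448, [18, 26, 36, 52, 40, 28, 14], [3, 4, 5, 6, 0, 2, 3, 4, 5, 1, 3, 4, 2, 3, 0, 2, 1, 3, 4, 5, 4, 2, 3, 0, 2, 1, 3, 2], 5, [([0, 2, 3, 1, 4, 3, 2,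 0, 5, 4, 6, 5], 4), ([3, 2, 4, 3, 5, 4, 6, 5], 5), ([5, 4, 6, 5], 6), ([], 7), ([5, 4, 3, 2, 6, 5, 4, 3], 6), ([3, 1, 4, 3, 5, 4, 6, 5], 5), ([5, 4, 3, 1, 6, 5, 4, 3], 6), ([3, 2, 0, 4, 3, 2, 5, 4, 3, 1, 6, 5, 4, 3, 2, 0], 5)]⟩⟩,
   ⟨[2, 4, 6], [63, 66, 73], 9527743314070983409664, .good ⟨[([], 2), ([], 4), ([], 6)], [73, 66, 63], [2, 4, 6], [(64, 68), (65, 67), (69, 75), (70, 74), (78, 78), (93, 94), (71, 77), (72, 76), (79, 84), (80, 83), (95, 96), (81, 86), (82, 85), (87, 87), (97, 98), (99, 100), (88, 91), (89, 90), (101, 102), (103, 109), (92, 92), (104, 113), (105, 112), (106, 111), (107, 110), (108, 114), (115, 116), (117, 118), (119, 120), (121, 122), (123, 124), (125, 125)], 85070591730234606328876965750103867392, [20, 29, 38, 56, 43, 30, 15], [3, 4, 5, 6, 0, 2, 3, 4, 5, 1, 3, 4, 2, 3, 0, 2, 1, 3, 4, 5, 4, 2, 3, 0, 2, 1, 3, 0], 2, [([], 3), ([], 4), ([],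 5), ([], 6), ([], 7), ([5, 4, 6, 5], 6), ([3, 2, 4, 3], 5), ([5, 4, 3, 2, 6, 5, 4, 3], 6), ([3, 2, 4, 3, 5, 4, 6, 5], 5), ([], 8), ([3, 1, 4, 3], 5), ([5, 4, 3, 1, 6, 5, 4, 3], 6), ([3, 1, 4, 3, 5, 4, 6, 5], 5), ([0, 2, 3, 1, 4, 3, 2, 0], 4), ([3, 2, 0, 4, 3, 2, 5, 4, 3, 1, 6, 5, 4, 3, 2, 0], 5), ([0, 2, 3, 1, 4, 3, 2, 0, 5, 4, 6, 5], 4)]⟩⟩,
   ⟨[0, 2, 4, 6], [63, 66, 73, 93, 94], 29710570470592440668562391040, .bad [0, 2, 0, 4, 6] 0⟩,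
   ⟨[1, 2, 4, 6], [63, 66, 73, 78], 311759198217728277086208, .good ⟨[([], 1), ([], 2), ([], 4), ([], 6)], [78, 73, 66, 63], [1, 2, 4, 6], [(64, 68), (65, 67), (69, 84), (70, 83), (74, 80), (75, 79), (93, 94), (71, 86), (72, 85), (76, 82), (77, 81), (87, 87), (95, 100), (96, 99), (88, 91), (89, 90), (97, 102), (98, 101), (103, 109), (92, 92), (104, 113), (105, 112), (106, 111), (107, 110), (108, 114), (115, 120), (116, 119), (117, 122), (118, 121), (123, 124), (125, 125)], 85070591730234304097422062092810190848, [16, 22, 30, 44, 34, 24, 12], [3, 4, 5, 6, 0, 2, 3, 4, 5, 1, 3, 4, 2, 3, 0, 2, 1, 3, 4, 5, 4, 2, 3, 0, 2, 1, 3, 0], 5, [([0, 2, 3, 1, 4, 3, 2, 0, 5, 4, 6, 5], 4), ([3, 2, 4, 3, 5, 4, 6, 5], 5), ([5, 4, 6, 5], 6), ([], 7), ([5, 4, 3, 2, 6, 5, 4, 3], 6), ([3, 1, 4, 3, 5, 4, 6, 5], 5), ([5, 4, 3, 1, 6, 5, 4, 3], 6), ([3, 2, 0, 4, 3, 2, 5, 4, 3, 1, 6, 5, 4, 3,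 2, 0], 5)]⟩⟩,
   ⟨[0, 1, 2, 4, 6], [63, 66, 73, 78, 93, 94], 29710872702047344325856067584, .bad [0, 1, 2, 0, 4, 6] 0⟩,
   ⟨[3, 4, 6], [63, 66, 69, 70], 1853897779407809937408, .bad [3, 4, 3, 6] 3⟩,
   ⟨[0, 3, 4, 6], [63, 66, 69, 70, 93], 9903522168180821607002931200, .bad [0, 3, 4, 3, 6] 3⟩,
   ⟨[1, 3, 4, 6], [63, 66, 69, 70, 78, 79, 80], 2117474082105008865673216, .bad [1, 3, 1, 4, 3, 1, 6] 1⟩,
   ⟨[0, 1, 3, 4, 6], [63, 66, 69, 70, 78, 79, 80, 93], 9905637788365147208058667008, .bad [0, 1, 3, 1, 4, 3, 1, 6] 1⟩,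
   ⟨[2, 3, 4, 6], [63, 66, 69, 70, 73, 74, 75], 67967028539582842929152, .bad [2, 3, 2, 4, 3, 2, 6] 2⟩,
   ⟨[0, 2, 3, 4, 6], [63, 66, 69, 70, 73, 74, 75, 93, 94, 95, 96], 148552872681274172570737836032, .bad [0, 2, 0, 3, 2, 0, 4, 3, 2, 0, 6] 0⟩,
   ⟨[1, 2, 3, 4, 6], [63, 66, 69, 70, 73, 74, 75, 78, 79, 80, 83, 84, 87], 185940311794288818454003712, .good ⟨[([3, 1, 2, 3], 4), ([], 1), ([], 2), ([], 4), ([], 6)], [87, 78, 73, 66, 63], [3, 1, 2, 3, 4, 3, 2, 1, 3, 1, 2, 4, 6], [(64, 91), (65, 90), (67, 89), (68, 88), (71, 86), (72, 85), (76, 82), (77, 81), (93, 109), (94, 103), (95, 100), (96, 99), (92, 92), (97, 120), (98, 119), (101, 116), (102, 115), (104, 113), (105, 112), (106, 111), (107, 110), (108, 124), (114, 123), (117, 122), (118, 121), (125, 125)], 85070591730048675544825991002633273344, [8, 10, 14, 20, 16, 12, 6], [3, 4, 5, 6, 0, 2, 3, 4, 5, 1, 3, 4, 2, 3,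 0, 2, 1, 3, 4, 5, 4, 2, 3, 0, 2, 1, 3, 0], 6, [([3, 2, 0, 4, 3, 2, 5, 4, 3, 1, 6, 5, 4, 3, 2, 0], 5), ([5, 4, 3, 2, 6, 5, 4, 3], 6), ([], 7), ([5, 4, 3, 1, 6, 5, 4, 3], 6)]⟩⟩,
   ⟨[0, 1, 2, 3, 4, 6], [63, 66, 69, 70, 73, 74, 75, 78, 79, 80, 83, 84, 87, 93, 94, 95, 96, 99, 100, 103, 109], 661228526764047672802337070514176, .bad [0, 1, 2, 0, 3, 1, 2, 0, 3, 2, 4, 3, 1, 2, 0, 3, 2, 4, 3, 1, 6] 1⟩]

/-- Cases of node 19. -/
def cases19_6 : List JCase :=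
  [⟨[5, 6], [63, 64, 65], 64563604257983430656, .bad [5, 6, 5] 5⟩,
   ⟨[0, 5, 6], [63, 64, 65, 93], 9903520378846646457176424448, .bad [0, 5, 6, 5] 5⟩,
   ⟨[1, 5, 6], [63, 64, 65, 78], 302296018507915277107200, .bad [1, 5, 6, 5] 5⟩,
   ⟨[0, 1, 5, 6], [63, 64, 65, 78, 93], 9903822610301550114470100992, .bad [0, 1, 5, 6, 5] 5⟩,
   ⟨[2, 5, 6], [63, 64, 65, 73], 9509296569997273858048, .bad [2, 5, 6, 5] 5⟩,
   ⟨[0, 2, 5, 6], [63, 64, 65, 73, 93, 94], 29710570452145696594852839424, .bad [0, 2, 0, 5, 6, 5] 0⟩,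
   ⟨[1, 2, 5, 6], [63, 64, 65, 73, 78], 311740751473654567534592, .bad [1, 2, 5, 6, 5] 5⟩,
   ⟨[0, 1, 2, 5, 6], [63, 64, 65, 73, 78, 93, 94], 29710872683600600252146515968, .bad [0, 1, 2, 0, 5, 6, 5] 0⟩,
   ⟨[3, 5, 6], [63, 64, 65, 69], 654859414616689082368, .bad [3, 5, 6, 5] 5⟩,
   ⟨[0, 3, 5, 6], [63, 64, 65, 69, 93], 9903520969142456815882076160, .bad [0, 3, 5, 6, 5] 5⟩,
   ⟨[1, 3, 5, 6], [63, 64, 65, 69, 78, 79], 907349224125588570112000, .bad [1, 3, 1, 5, 6, 5] 1⟩,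
   ⟨[0, 1, 3, 5, 6], [63, 64, 65, 69, 78, 79, 93], 9904427663507167787763105792, .bad [0, 1, 3, 1, 5, 6, 5] 1⟩,
   ⟨[2, 3, 5, 6], [63, 64, 65, 69, 73, 74], 28989058311834560364544, .bad [2, 3, 2, 5, 6, 5] 2⟩,
   ⟨[0, 2, 3, 5, 6], [63, 64, 65, 69, 73, 74, 93, 94, 95], 69324671189039607228911321088, .bad [0, 2, 0, 3, 2, 0, 5, 6, 5] 0⟩,
   ⟨[1, 2, 3, 5, 6], [63, 64, 65, 69, 73, 74, 78, 79, 83], 10607089979939839839043584, .bad [1, 2, 3, 1, 2, 3, 5, 6, 5] 1⟩,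
   ⟨[0, 1, 2, 3, 5, 6], [63, 64, 65, 69, 73, 74, 78, 79, 83, 93, 94, 95, 99], 703160549404075935982541602816, .bad [0, 1, 2, 0, 3, 1, 2, 0, 3, 2, 5, 6, 5] 0⟩]

/-- Cases of node 19. -/
def cases19_7 : List JCase :=
  [⟨[4, 5, 6], [63, 64, 65, 66, 67, 68], 581072438321850875904, .bad [4, 5, 4, 6, 5, 4] 4⟩,
   ⟨[0, 4, 5, 6], [63, 64, 65, 66, 67, 68, 93], 9903520895355480521043869696, .bad [0, 4, 5, 4, 6, 5, 4] 4⟩,
   ⟨[1, 4, 5, 6], [63, 64, 65, 66, 67, 68, 78], 302812527341979144552448, .bad [1, 4, 5, 4, 6, 5, 4] 4⟩,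
   ⟨[0, 1, 4, 5, 6], [63, 64, 65, 66, 67, 68, 78, 93], 9903823126810384178337546240, .bad [0, 1, 4, 5, 4, 6, 5, 4] 4⟩,
   ⟨[2, 4, 5, 6], [63, 64, 65, 66, 67, 68, 73], 10025805404061141303296, .bad [2, 4, 5, 4, 6, 5, 4] 4⟩,
   ⟨[0, 2, 4, 5, 6], [63, 64, 65, 66, 67, 68, 73, 93, 94], 29710570968654530658720284672, .bad [0, 2, 0, 4, 5, 4, 6, 5, 4] 0⟩,
   ⟨[1, 2, 4, 5, 6], [63, 64, 65, 66, 67, 68, 73, 78], 312257260307718434979840, .bad [1, 2, 4, 5, 4, 6, 5, 4] 4⟩,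
   ⟨[0, 1, 2, 4, 5, 6], [63, 64, 65, 66, 67, 68, 73, 78, 93, 94], 29710873200109434316013961216, .bad [0, 1, 2, 0, 4, 5, 4, 6, 5, 4] 0⟩,
   ⟨[3, 4, 5, 6], [63, 64, 65, 66, 67, 68, 69, 70, 71, 72], 9435509593702435651584, .bad [3, 4, 3, 5, 4, 3, 6, 5, 4, 3] 3⟩,
   ⟨[0, 3, 4, 5, 6], [63, 64, 65, 66, 67, 68, 69, 70, 71, 72, 93], 9903529749792635901628645376, .bad [0, 3, 4, 3, 5, 4, 3, 6, 5, 4, 3] 3⟩,
   ⟨[1, 3, 4, 5, 6], [63, 64, 65, 66, 67, 68, 69, 70, 71, 72, 78, 79, 80, 81, 82], 9378610611607078539624448, .bad [1, 3, 1, 4, 3, 1, 5, 4, 3, 1, 6, 5, 4, 3, 1] 1⟩,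
   ⟨[0, 1, 3, 4, 5, 6], [63, 64, 65, 66, 67, 68, 69, 70, 71, 72, 78, 79, 80, 81, 82, 93], 9912898924894649277732618240, .bad [0, 1, 3, 1, 4, 3, 1, 5, 4, 3, 1, 6, 5, 4, 3, 1] 1⟩,
   ⟨[2, 3, 4, 5, 6], [63, 64, 65, 66, 67, 68, 69, 70, 71, 72, 73, 74, 75, 76, 77], 302222231531620438900736, .bad [2, 3, 2, 4, 3, 2, 5, 4, 3, 2, 6, 5, 4, 3, 2] 2⟩,
   ⟨[0, 2, 3, 4, 5, 6], [63, 64, 65, 66, 67, 68, 69, 70, 71, 72, 73, 74, 75, 76, 77, 93, 94, 95, 96, 97, 98], 623922082022063190169597509632, .bad [0, 2, 0, 3, 2, 0, 4, 3, 2, 0, 5, 4, 3, 2, 0, 6, 5, 4, 3, 2, 0] 0⟩,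
   ⟨[1, 2, 3, 4, 5, 6], [63, 64, 65, 66, 67, 68, 69, 70, 71, 72, 73, 74, 75, 76, 77, 78, 79, 80, 81, 82, 83, 84, 85, 86, 87, 88, 89, 90, 91, 92], 9903520305059670162338217984, .good ⟨[([5, 4, 3, 1, 2, 3, 4, 5], 6), ([3, 1, 2, 3], 4), ([], 1), ([], 2), ([], 4), ([], 6)], [92, 87, 78, 73, 66, 63], [5, 4, 3, 1, 2, 3, 4, 5, 6, 5, 4, 3, 2, 1, 3, 4, 5, 3, 1, 2, 3, 4, 3, 2, 1, 3, 1, 2, 4, 6], [(93, 124), (94, 123), (95, 122), (96, 121), (97, 120), (98, 119), (99, 118), (100, 117), (101, 116), (102, 115), (103, 114), (104, 113), (105, 112), (106, 111), (107, 110), (108, 109), (125, 125)], 85070591720331095551560609658749059072, [4, 4, 6, 8, 6, 4, 2], [3, 4, 5, 6, 0, 2, 3, 4, 5, 1, 3, 4, 2, 3, 0, 2, 1, 3, 4, 5, 4, 2, 3, 0, 2, 1, 3, 0], 7, [([5, 4, 3, 2, 6, 5, 4, 3], 6), ([], 7)]⟩⟩,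
   ⟨[0, 1, 2, 3, 4, 5, 6], [63, 64, 65, 66, 67, 68, 69, 70, 71, 72, 73, 74, 75, 76, 77, 78, 79, 80, 81, 82, 83, 84, 85, 86, 87, 88, 89, 90, 91, 92, 93, 94, 95, 96, 97, 98, 99, 100, 101, 102, 103, 104, 105, 106, 107, 108, 109, 110, 111, 112, 113, 114, 115, 116, 117, 118, 119, 120, 121, 122, 123, 124, 125], 85070591730234615856620279821087277056, .good ⟨[([0, 2, 3, 1, 4, 3, 2, 0, 5, 4, 3, 1, 2, 3, 4, 5], 6), ([5, 4, 3, 1, 2, 3, 4, 5], 6), ([3, 1, 2, 3], 4), ([], 1), ([], 2), ([], 4), ([], 6)], [125, 92, 87, 78, 73, 66, 63], [0, 2, 3, 1, 4, 3, 2, 0, 5, 4, 3, 1, 2, 3, 4, 5, 6, 5, 4, 3, 2, 1, 3, 4, 5, 0, 2, 3, 4, 1, 3, 2, 0, 5, 4, 3, 1, 2, 3, 4, 5, 6, 5, 4, 3, 2, 1, 3, 4, 5, 3, 1, 2, 3, 4, 3, 2, 1, 3, 1, 2, 4, 6], [], 0, [0, 0, 0, 0, 0, 0, 0], [3, 4, 5, 6, 0, 2, 3, 4, 5, 1, 3, 4, 2, 3, 0, 2, 1, 3, 4, 5, 4, 2, 3, 0, 2, 1, 3, 0], 8, [([], 7)]⟩⟩]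

/-- Node 19. -/
def node19 : Node :=
  ⟨[0, 1, 2, 3, 4, 5, 6], roots19, 85070591730234615865843651857942052863, reps19, [0, 1, 2, 0, 3, 1, 2, 0, 3, 2, 4, 3, 1, 2, 0, 3, 2, 4, 3, 1, 5, 4, 3, 1, 2, 0, 3, 2, 4, 3, 1, 5, 4, 3, 2, 0, 6, 5, 4, 3, 1, 2, 0, 3, 2, 4, 3, 1, 5, 4, 3, 2, 0, 6, 5, 4, 3, 1, 2, 3, 4, 5, 6], cases19_0 ++ cases19_1 ++ cases19_2 ++ cases19_3 ++ cases19_4 ++ cases19_5 ++ cases19_6 ++ cases19_7,
    [(roots18, reps18), (roots17, reps17), (roots15, reps15), (roots11, reps11), (roots16, reps16), (roots14, reps14), (roots12, reps12), (roots4, reps4), (roots0, reps0)]⟩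

/-- The final products. -/
def final : List (List ℕ) := [[], [125], [92, 125], [63, 92, 125], [87, 92, 125], [78, 87, 92, 125]]

/-- The moves to the final products. -/
def merges : List (List Move × ℕ) :=
  [([], 0),
   ([.refl 0, .refl 2, .refl 3, .refl 1, .refl 4, .refl 3, .refl 2, .refl 0, .refl 5, .refl 4, .refl 6, .refl 6, .refl 4, .refl 5, .refl 0, .refl 2, .refl 3, .refl 4, .refl 1, .refl 3, .refl 2, .refl 0], 1),
   ([.refl 0, .refl 2, .refl 5, .refl 4, .refl 3, .refl 1, .refl 2, .refl 6, .refl 5, .refl 4, .refl 3, .refl 2, .refl 0, .refl 0, .refl 2, .refl 3, .refl 4, .refl 5, .refl 6, .refl 2, .refl 1, .refl 3, .refl 4, .refl 5, .refl 2, .refl 0], 2),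
   ([.refl 0, .refl 3, .refl 1, .refl 2, .refl 0, .refl 3, .refl 4, .refl 5, .refl 4, .refl 3, .refl 1, .refl 2, .refl 3, .refl 6, .refl 5, .refl 4, .refl 4, .refl 5, .refl 6, .refl 3, .refl 2, .refl 1, .refl 3, .refl 4, .refl 5, .refl 4, .refl 3, .refl 0, .refl 2, .refl 1, .refl 3, .refl 0], 4),
   ([.refl 0, .refl 2, .refl 3, .refl 1, .refl 2, .refl 0, .refl 3, .refl 2, .refl 5, .refl 4, .refl 3, .refl 1, .refl 2, .refl 3, .refl 4, .refl 6, .refl 5, .refl 4, .refl 3, .refl 3, .refl 4, .refl 5, .refl 6, .refl 4, .refl 3, .refl 2, .refl 1, .refl 3, .refl 4, .refl 5, .refl 2, .refl 3, .refl 0, .refl 2, .refl 1, .refl 3, .refl 2, .refl 0], 5),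
   ([.refl 3, .refl 1, .refl 2, .refl 0, .refl 3, .refl 5, .refl 4, .refl 3, .refl 1, .refl 2, .refl 3, .refl 4, .refl 5, .refl 6, .refl 5, .refl 4, .refl 3, .refl 1, .refl 2, .conj [96, 87, 79, 76], .norm, .refl 4, .refl 5, .refl 6, .refl 3, .refl 4, .refl 2, .refl 3, .refl 0, .refl 2, .refl 1, .refl 3, .refl 4, .refl 5, .refl 3, .refl 4, .refl 2, .refl 3, .refl 0, .refl 2, .refl 1, .refl 3, .refl 2, .refl 0], 5),
   ([.refl 0, .refl 3, .refl 2, .refl 5, .refl 4, .refl 3, .refl 6, .refl 5, .conj [93, 79, 76, 63], .norm, .refl 5, .refl 6, .refl 3, .refl 4, .refl 5, .refl 0, .refl 2, .refl 1, .refl 3, .refl 0, .refl 3, .refl 1, .refl 2, .refl 0, .refl 3, .refl 5, .refl 4, .refl 3, .refl 1, .refl 2, .refl 3, .refl 4, .refl 5, .refl 6, .refl 5, .refl 4, .refl 3, .refl 1, .refl 2, .conj [96, 87, 79, 76], .norm, .refl 4, .refl 5, .refl 6, .refl 3, .refl 4, .refl 2, .refl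 3, .refl 0, .refl 2, .refl 1, .refl 3, .refl 4, .refl 5, .refl 3, .refl 4, .refl 2, .refl 3, .refl 0, .refl 2, .refl 1, .refl 3, .refl 2, .refl 0], 5),
   ([.refl 0, .refl 3, .refl 2, .conj [104, 90, 75, 82], .norm, .refl 3, .refl 4, .refl 5, .refl 1, .refl 3, .refl 4, .refl 2, .refl 3, .refl 0, .refl 2, .refl 1, .refl 3, .refl 4, .refl 5, .refl 3, .refl 0, .refl 3, .refl 2, .refl 5, .refl 4, .refl 3, .refl 6, .refl 5, .conj [93, 79, 76, 63], .norm, .refl 5, .refl 6, .refl 3, .refl 4, .refl 5, .refl 0, .refl 2, .refl 1, .refl 3, .refl 0, .refl 3, .refl 1, .refl 2, .refl 0, .refl 3, .refl 5, .refl 4, .refl 3, .refl 1, .refl 2, .refl 3, .refl 4, .refl 5, .refl 6, .refl 5, .refl 4, .refl 3, .refl 1, .refl 2, .conj [96, 87, 79, 76], .norm, .refl 4, .refl 5, .refl 6, .refl 3, .refl 4, .refl 2, .refl 3, .refl 0, .refl 2, .refl 1, .refl 3, .refl 4, .refl 5, .refl 3, .refl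 4, .refl 2, .refl 3, .refl 0, .refl 2, .refl 1, .refl 3, .refl 2, .refl 0], 5),
   ([.refl 3, .refl 1, .conj [108, 99, 83, 96], .norm, .refl 0, .refl 2, .refl 3, .refl 4, .refl 5, .refl 6, .refl 3, .refl 2, .refl 1, .refl 3, .refl 4, .refl 5, .refl 2, .refl 3, .refl 4, .refl 1, .refl 3, .refl 0], 4),
   ([.refl 0, .refl 2, .refl 3, .refl 1, .refl 5, .refl 4, .refl 3, .refl 1, .refl 2, .refl 3, .refl 4, .refl 6, .refl 5, .refl 4, .refl 3, .refl 1, .refl 2, .refl 0, .refl 3, .refl 2, .refl 2, .refl 3, .refl 0, .refl 2, .refl 1, .refl 3, .refl 4, .refl 5, .refl 6, .refl 4, .refl 3, .refl 2, .refl 1, .refl 3, .refl 4, .refl 5, .refl 1, .refl 3, .refl 2, .refl 0], 3)]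

end Cfsg.Agent.Chev.Invol.E7
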