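import Cfsg.Agent.Lib.Chev.Invol.Sound
import Cfsg.Agent.Lib.Chev.CheckE7
import Cfsg.Agent.Lib.Chev.Invol.E7.Data

/-!
Generated certificates for the classes of involutions of the Chevalley group of type E7 in characteristic two.
-/
set_option autoImplicit false
set_option maxRecDepth 100000

namespace Cfsg.Agent.Chev.Invol.E7

open Cfsg.Lie Cfsg.Agent.Chev.E7

theorem cases0_0_ok : allL (caseOK cert node0) cases0_0 = true := by decide +kernel

theorem node0_ok : nodeOK cert lam node0 = true := by decide +kernel

theorem cases1_0_ok : allL (caseOK cert node1) cases1_0 = true := by decide +kernel

theorem node1_ok : nodeOK cert lam node1 = true := by decide +kernel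

theorem cases2_0_ok : allL (caseOK cert node2) cases2_0 = true := by decide +kernel

theorem node2_ok : nodeOK cert lam node2 = true := by decide +kernel

theorem cases3_0_ok : allL (caseOK cert node3) cases3_0 = true := by decide +kernel

theorem node3_ok : nodeOK cert lam node3 = true := by decide +kernel

theorem cases4_0_ok : allL (caseOK cert node4) cases4_0 = true := by decide +kernel

theorem node4_ok : nodeOK cert lam node4 = true := by decide +kernel

theorem cases5_0_ok : allL (caseOK cert node5) cases5_0 = true := by decide +kernel

theorem node5_ok : nodeOK cert lam node5 = true := by decide +kernel

theorem cases6_0_ok : allL (caseOK cert node6) cases6_0 = true := by decide +kernel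

theorem node6_ok : nodeOK cert lam node6 = true := by decide +kernel

theorem cases7_0_ok : allL (caseOK cert node7) cases7_0 = true := by decide +kernel

theorem node7_ok : nodeOK cert lam node7 = true := by decide +kernel

theorem cases8_0_ok : allL (caseOK cert node8) cases8_0 = true := by decide +kernel

theorem node8_ok : nodeOK cert lam node8 = true := by decide +kernel

theorem cases9_0_ok : allL (caseOK cert node9) cases9_0 = true := by decide +kernel

theorem node9_ok : nodeOK cert lam node9 = true := by decide +kernel

theorem cases10_0_ok : allL (caseOK cert node10) cases10_0 = true := by decide +kernel

theorem node10_ok : nodeOK cert lam node10 = true := by decide +kernel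

theorem cases11_0_ok : allL (caseOK cert node11) cases11_0 = true := by decide +kernel

theorem node11_ok : nodeOK cert lam node11 = true := by decide +kernel

theorem cases12_0_ok : allL (caseOK cert node12) cases12_0 = true := by decide +kernel

theorem node12_ok : nodeOK cert lam node12 = true := by decide +kernel

theorem cases13_0_ok : allL (caseOK cert node13) cases13_0 = true := by decide +kernel

theorem node13_ok : nodeOK cert lam node13 = true := by decide +kernel

theorem cases14_0_ok : allL (caseOK cert node14) cases14_0 = true := by decide +kernel

theorem node14_ok : nodeOK cert lam node14 = true := by decide +kernel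

theorem cases15_0_ok : allL (caseOK cert node15) cases15_0 = true := by decide +kernel

theorem node15_ok : nodeOK cert lam node15 = true := by decide +kernel

theorem cases16_0_ok : allL (caseOK cert node16) cases16_0 = true := by decide +kernel

theorem node16_ok : nodeOK cert lam node16 = true := by decide +kernel

theorem cases17_0_ok : allL (caseOK cert node17) cases17_0 = true := by decide +kernel

theorem cases17_1_ok : allL (caseOK cert node17) cases17_1 = true := by decide +kernel

theorem node17_ok : nodeOK cert lam node17 = true := by decide +kernel

theorem cases18_0_ok : allL (caseOK cert node18) cases18_0 = true := by decide +kernel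

theorem cases18_1_ok : allL (caseOK cert node18) cases18_1 = true := by decide +kernel

theorem cases18_2_ok : allL (caseOK cert node18) cases18_2 = true := by decide +kernel

theorem cases18_3_ok : allL (caseOK cert node18) cases18_3 = true := by decide +kernel

theorem node18_ok : nodeOK cert lam node18 = true := by decide +kernel

theorem cases19_0_ok : allL (caseOK cert node19) cases19_0 = true := by decide +kernel

theorem cases19_1_ok : allL (caseOK cert node19) cases19_1 = true := by decide +kernel

theorem cases19_2_ok : allL (caseOK cert node19) cases19_2 = true := by decide +kernel

theorem cases19_3_ok : allL (caseOK cert node19) cases19_3 = true := by decide +kernel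

theorem cases19_4_ok : allL (caseOK cert node19) cases19_4 = true := by decide +kernel

theorem cases19_5_ok : allL (caseOK cert node19) cases19_5 = true := by decide +kernel

theorem cases19_6_ok : allL (caseOK cert node19) cases19_6 = true := by decide +kernel

theorem cases19_7_ok : allL (caseOK cert node19) cases19_7 = true := by decide +kernel

theorem node19_ok : nodeOK cert lam node19 = true := by decide +kernel

theorem merges_ok : mergeOK cert node19.K node19.roots merges node19.reps final = true := by decide +kernel

theorem top_reps_lt : node19.reps.all (fun R => R.all fun r => decide (r < cert.nroots)) = true := by decide +kernel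

variable {F : Type*} [Field F] [CharP F 2] [Fintype F]
  {tabs simps : List ℕ} (hf : BNSetup.Facts chevE7 tabs simps) (hn : BNSetup.NegTri chevE7)
include hf hn

theorem classified0 : Classified chevE7 F roots0 reps0 :=
  node_classified (c := cert) (lam := lam) (nd := node0) valid hf hn node0_ok
    (fun jc h => allL_iff.1 cases0_0_ok jc h)
    (fun p h => by simp [node0] at h)

theorem classified1 : Classified chevE7 F roots1 reps1 :=
  node_classified (c := cert) (lam := lam) (nd := node1) valid hf hn node1_ok
    (fun jc h => allL_iff.1 cases1_0_ok jc h)
    (fun p h => by
      simp only [node1, List.mem_cons, List.not_mem_nil, or_false] at h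
      subst h; exact classified0 hf hn)

theorem classified2 : Classified chevE7 F roots2 reps2 :=
  node_classified (c := cert) (lam := lam) (nd := node2) valid hf hn node2_ok
    (fun jc h => allL_iff.1 cases2_0_ok jc h)
    (fun p h => by
      simp only [node2, List.mem_cons, List.not_mem_nil, or_false] at h
      subst h; exact classified0 hf hn)

theorem classified3 : Classified chevE7 F roots3 reps3 :=
  node_classified (c := cert) (lam := lam) (nd := node3) valid hf hn node3_ok
    (fun jc h => allL_iff.1 cases3_0_ok jc h)
    (fun p h => by
      simp only [node3, List.mem_cons, List.not_mem_nil, or_false] at h
      rcases h with rfl | rfl | rfl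
      · exact classified1 hf hn
      · exact classified2 hf hn
      · exact classified0 hf hn)

theorem classified4 : Classified chevE7 F roots4 reps4 :=
  node_classified (c := cert) (lam := lam) (nd := node4) valid hf hn node4_ok
    (fun jc h => allL_iff.1 cases4_0_ok jc h)
    (fun p h => by
      simp only [node4, List.mem_cons, List.not_mem_nil, or_false] at h
      subst h; exact classified0 hf hn)

theorem classified5 : Classified chevE7 F roots5 reps5 :=
  node_classified (c := cert) (lam := lam) (nd := node5) valid hf hn node5_ok
    (fun jc h => allL_iff.1 cases5_0_ok jc h)
    (fun p h => by
      simp only [node5, List.mem_cons, List.not_mem_nil, or_false] at h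
      rcases h with rfl | rfl | rfl
      · exact classified1 hf hn
      · exact classified4 hf hn
      · exact classified0 hf hn)

theorem classified6 : Classified chevE7 F roots6 reps6 :=
  node_classified (c := cert) (lam := lam) (nd := node6) valid hf hn node6_ok
    (fun jc h => allL_iff.1 cases6_0_ok jc h)
    (fun p h => by
      simp only [node6, List.mem_cons, List.not_mem_nil, or_false] at h
      rcases h with rfl | rfl | rfl
      · exact classified2 hf hn
      · exact classified4 hf hn
      · exact classified0 hf hn)

theorem classified7 : Classified chevE7 F roots7 reps7 :=
  node_classified (c := cert) (lam := lam) (nd := node7) valid hf hn node7_ok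
    (fun jc h => allL_iff.1 cases7_0_ok jc h)
    (fun p h => by
      simp only [node7, List.mem_cons, List.not_mem_nil, or_false] at h
      rcases h with rfl | rfl | rfl | rfl | rfl | rfl | rfl
      · exact classified3 hf hn
      · exact classified5 hf hn
      · exact classified1 hf hn
      · exact classified6 hf hn
      · exact classified2 hf hn
      · exact classified4 hf hn
      · exact classified0 hf hn)

theorem classified8 : Classified chevE7 F roots8 reps8 :=
  node_classified (c := cert) (lam := lam) (nd := node8) valid hf hn node8_ok
    (fun jc h => allL_iff.1 cases8_0_ok jc h)
    (fun p h => by
      simp only [node8, List.mem_cons, List.not_mem_nil, or_false] at h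
      subst h; exact classified0 hf hn)

theorem classified9 : Classified chevE7 F roots9 reps9 :=
  node_classified (c := cert) (lam := lam) (nd := node9) valid hf hn node9_ok
    (fun jc h => allL_iff.1 cases9_0_ok jc h)
    (fun p h => by
      simp only [node9, List.mem_cons, List.not_mem_nil, or_false] at h
      rcases h with rfl | rfl | rfl
      · exact classified1 hf hn
      · exact classified8 hf hn
      · exact classified0 hf hn)

theorem classified10 : Classified chevE7 F roots10 reps10 :=
  node_classified (c := cert) (lam := lam) (nd := node10) valid hf hn node10_ok
    (fun jc h => allL_iff.1 cases10_0_ok jc h)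
    (fun p h => by
      simp only [node10, List.mem_cons, List.not_mem_nil, or_false] at h
      rcases h with rfl | rfl | rfl
      · exact classified2 hf hn
      · exact classified8 hf hn
      · exact classified0 hf hn)

theorem classified11 : Classified chevE7 F roots11 reps11 :=
  node_classified (c := cert) (lam := lam) (nd := node11) valid hf hn node11_ok
    (fun jc h => allL_iff.1 cases11_0_ok jc h)
    (fun p h => by
      simp only [node11, List.mem_cons, List.not_mem_nil, or_false] at h
      rcases h with rfl | rfl | rfl | rfl | rfl | rfl | rfl
      · exact classified3 hf hn
      · exact classified9 hf hn
      · exact classified1 hf hn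
      · exact classified10 hf hn
      · exact classified2 hf hn
      · exact classified8 hf hn
      · exact classified0 hf hn)

theorem classified12 : Classified chevE7 F roots12 reps12 :=
  node_classified (c := cert) (lam := lam) (nd := node12) valid hf hn node12_ok
    (fun jc h => allL_iff.1 cases12_0_ok jc h)
    (fun p h => by
      simp only [node12, List.mem_cons, List.not_mem_nil, or_false] at h
      rcases h with rfl | rfl | rfl
      · exact classified4 hf hn
      · exact classified8 hf hn
      · exact classified0 hf hn)

theorem classified13 : Classified chevE7 F roots13 reps13 :=
  node_classified (c := cert) (lam := lam) (nd := node13) valid hf hn node13_ok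
    (fun jc h => allL_iff.1 cases13_0_ok jc h)
    (fun p h => by
      simp only [node13, List.mem_cons, List.not_mem_nil, or_false] at h
      rcases h with rfl | rfl | rfl | rfl | rfl | rfl | rfl
      · exact classified5 hf hn
      · exact classified9 hf hn
      · exact classified1 hf hn
      · exact classified12 hf hn
      · exact classified4 hf hn
      · exact classified8 hf hn
      · exact classified0 hf hn)

theorem classified14 : Classified chevE7 F roots14 reps14 :=
  node_classified (c := cert) (lam := lam) (nd := node14) valid hf hn node14_ok
    (fun jc h => allL_iff.1 cases14_0_ok jc h)
    (fun p h => by
      simp only [node14, List.mem_cons, List.not_mem_nil, or_false] at h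
      rcases h with rfl | rfl | rfl | rfl | rfl | rfl | rfl
      · exact classified6 hf hn
      · exact classified10 hf hn
      · exact classified2 hf hn
      · exact classified12 hf hn
      · exact classified4 hf hn
      · exact classified8 hf hn
      · exact classified0 hf hn)

theorem classified15 : Classified chevE7 F roots15 reps15 :=
  node_classified (c := cert) (lam := lam) (nd := node15) valid hf hn node15_ok
    (fun jc h => allL_iff.1 cases15_0_ok jc h)
    (fun p h => by
      simp only [node15, List.mem_cons, List.not_mem_nil, or_false] at h
      rcases h with rfl | rfl | rfl | rfl | rfl | rfl | rfl | rfl | rfl | rfl | rfl | rfl | rfl | rfl | rfl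
      · exact classified7 hf hn
      · exact classified11 hf hn
      · exact classified3 hf hn
      · exact classified13 hf hn
      · exact classified5 hf hn
      · exact classified9 hf hn
      · exact classified1 hf hn
      · exact classified14 hf hn
      · exact classified6 hf hn
      · exact classified10 hf hn
      · exact classified2 hf hn
      · exact classified12 hf hn
      · exact classified4 hf hn
      · exact classified8 hf hn
      · exact classified0 hf hn)

theorem classified16 : Classified chevE7 F roots16 reps16 :=
  node_classified (c := cert) (lam := lam) (nd := node16) valid hf hn node16_ok
    (fun jc h => allL_iff.1 cases16_0_ok jc h)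
    (fun p h => by
      simp only [node16, List.mem_cons, List.not_mem_nil, or_false] at h
      rcases h with rfl | rfl | rfl | rfl | rfl | rfl
      · exact classified14 hf hn
      · exact classified12 hf hn
      · exact classified10 hf hn
      · exact classified6 hf hn
      · exact classified2 hf hn
      · exact classified0 hf hn)

theorem classified17 : Classified chevE7 F roots17 reps17 :=
  node_classified (c := cert) (lam := lam) (nd := node17) valid hf hn node17_ok
    (fun jc h => by
      simp only [node17, List.mem_append] at h
      rcases h with (h0 | h1)
      · exact allL_iff.1 cases17_0_ok jc h0
      · exact allL_iff.1 cases17_1_ok jc h1)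
    (fun p h => by
      simp only [node17, List.mem_cons, List.not_mem_nil, or_false] at h
      rcases h with rfl | rfl | rfl | rfl | rfl | rfl | rfl | rfl | rfl | rfl | rfl | rfl | rfl
      · exact classified15 hf hn
      · exact classified13 hf hn
      · exact classified11 hf hn
      · exact classified7 hf hn
      · exact classified3 hf hn
      · exact classified1 hf hn
      · exact classified16 hf hn
      · exact classified14 hf hn
      · exact classified12 hf hn
      · exact classified10 hf hn
      · exact classified6 hf hn
      · exact classified2 hf hn
      · exact classified0 hf hn)

theorem classified18 : Classified chevE7 F roots18 reps18 :=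
  node_classified (c := cert) (lam := lam) (nd := node18) valid hf hn node18_ok
    (fun jc h => by
      simp only [node18, List.mem_append] at h
      rcases h with (((h0 | h1) | h2) | h3)
      · exact allL_iff.1 cases18_0_ok jc h0
      · exact allL_iff.1 cases18_1_ok jc h1
      · exact allL_iff.1 cases18_2_ok jc h2
      · exact allL_iff.1 cases18_3_ok jc h3)
    (fun p h => by
      simp only [node18, List.mem_cons, List.not_mem_nil, or_false] at h
      rcases h with rfl | rfl | rfl | rfl | rfl | rfl | rfl | rfl | rfl | rfl
      · exact classified17 hf hn
      · exact classified16 hf hn
      · exact classified15 hf hn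
      · exact classified13 hf hn
      · exact classified12 hf hn
      · exact classified7 hf hn
      · exact classified11 hf hn
      · exact classified3 hf hn
      · exact classified1 hf hn
      · exact classified0 hf hn)

theorem classified19 : Classified chevE7 F roots19 reps19 :=
  node_classified (c := cert) (lam := lam) (nd := node19) valid hf hn node19_ok
    (fun jc h => by
      simp only [node19, List.mem_append] at h
      rcases h with (((((((h0 | h1) | h2) | h3) | h4) | h5) | h6) | h7)
      · exact allL_iff.1 cases19_0_ok jc h0
      · exact allL_iff.1 cases19_1_ok jc h1
      · exact allL_iff.1 cases19_2_ok jc h2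
      · exact allL_iff.1 cases19_3_ok jc h3
      · exact allL_iff.1 cases19_4_ok jc h4
      · exact allL_iff.1 cases19_5_ok jc h5
      · exact allL_iff.1 cases19_6_ok jc h6
      · exact allL_iff.1 cases19_7_ok jc h7)
    (fun p h => by
      simp only [node19, List.mem_cons, List.not_mem_nil, or_false] at h
      rcases h with rfl | rfl | rfl | rfl | rfl | rfl | rfl | rfl | rfl
      · exact classified18 hf hn
      · exact classified17 hf hn
      · exact classified15 hf hn
      · exact classified11 hf hn
      · exact classified16 hf hn
      · exact classified14 hf hn
      · exact classified12 hf hn
      · exact classified4 hf hn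
      · exact classified0 hf hn)

theorem classified_final : Classified chevE7 F roots19 final :=
  classified_merge (c := cert) (lam := lam) valid (K := node19.K) (roots := node19.roots) (reps := node19.reps)
    (levi_of_leviOK valid (by
      have h := node19_ok
      simp only [nodeOK, Bool.and_eq_true] at h
      exact h.1.1.1.1.1.1))
    (fun R hR r hr => by
      have h := top_reps_lt
      simp only [List.all_eq_true, decide_eq_true_eq] at h
      exact (valid.nroots_eq) ▸ h R hR r hr)
    merges_ok (classified19 hf hn)

end Cfsg.Agent.Chev.Invol.E7
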